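import Mathlib
import Cfsg.Prelude.Def_Sporadic_a
import Cfsg.Agent.SectRankFour.AutM11
import Cfsg.Agent.Lib.KleinOrder
import Cfsg.Agent.S0420
import Cfsg.Agent.S1603
set_option linter.all false

/-!
# Facts on simple groups of order 7920

Centralizers of four-groups, elements of order three, homomorphisms, orbits.
-/

set_option autoImplicit false

namespace Cfsg.Agent.SylowLFive.MElevenFacts

open Subgroup Cfsg

section general

variable {G : Type*} [Group G]

theorem orderOf_two {a : G} (h : a * a = 1) (h1 : a ≠ 1) : orderOf a = 2 :=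
  orderOf_eq_prime (by rw [pow_two, h]) h1

theorem sq_of {a : G} (h : orderOf a = 2) : a * a = 1 := by
  have := pow_orderOf_eq_one a
  rwa [h, pow_two] at this

end general

variable {M : Type*} [Group M] [Finite M]

theorem exists_two (hM : IsM11 M) : ∃ u : M, orderOf u = 2 := by
  have : Fact (Nat.Prime 2) := ⟨Nat.prime_two⟩
  exact exists_prime_orderOf_dvd_card' 2 (by rw [hM.2]; norm_num)

/-- the centre is trivial -/
theorem eq_one_of_central (hM : IsM11 M) {z : M} (hz : ∀ x, z * x = x * z) : z = 1 := by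
  have := hM.1
  rcases hM.1.eq_bot_or_eq_top_of_normal (center M) inferInstance with h | h
  · have : z ∈ center M := mem_center_iff.2 fun x => (hz x).symm
    rw [h] at this
    exact this
  · exfalso
    obtain ⟨u, hu⟩ := exists_two hM
    have h48 := Cfsg.Agent.SporadicA.M11Facts.card_centralizer_two hM hu
    have : centralizer ({u} : Set M) = ⊤ := by
      rw [eq_top_iff, ← h]
      exact center_le_centralizer _
    rw [this] at h48
    rw [Subgroup.card_top, hM.2] at h48
    norm_num at h48

/-- kernel check in `GL(2,3)`: the centralizer of a noncentral involution -/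
def Chk (a b c d e f g h : ZMod 3) : Prop :=
  (a * a + b * c = 1 ∧ a * b + b * d = 0 ∧ c * a + d * c = 0 ∧ c * b + d * d = 1) →
  ¬ (a = 1 ∧ b = 0 ∧ c = 0 ∧ d = 1) → ¬ (a = 2 ∧ b = 0 ∧ c = 0 ∧ d = 2) →
  e * h - f * g ≠ 0 →
  (a * e + b * g = e * a + f * c ∧ a * f + b * h = e * b + f * d ∧
    c * e + d * g = g * a + h * c ∧ c * f + d * h = g * b + h * d) →
  (e = 1 ∧ f = 0 ∧ g = 0 ∧ h = 1) ∨ (e = 2 ∧ f = 0 ∧ g = 0 ∧ h = 2) ∨
    (e = a ∧ f = b ∧ g = c ∧ h = d) ∨
    (e = 2 * a + 0 * c ∧ f = 2 * b + 0 * d ∧ g = 0 * a + 2 * c ∧ h = 0 * b + 2 * d)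

instance (a b c d e f g h : ZMod 3) : Decidable (Chk a b c d e f g h) := by
  unfold Chk; infer_instance

theorem chk_all : ∀ a b c d e f g h : ZMod 3, Chk a b c d e f g h := by
  decide +kernel

/-- kernel check in `GL(2,3)`: central involutions -/
def Chc (a b c d : ZMod 3) : Prop :=
  (a * a + b * c = 1 ∧ a * b + b * d = 0 ∧ c * a + d * c = 0 ∧ c * b + d * d = 1) →
  ¬ (a = 1 ∧ b = 0 ∧ c = 0 ∧ d = 1) →
  (a * 1 + b * 0 = 1 * a + 1 * c ∧ a * 1 + b * 1 = 1 * b + 1 * d ∧
    c * 1 + d * 0 = 0 * a + 1 * c ∧ c * 1 + d * 1 = 0 * b + 1 * d) →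
  (a * 0 + b * 1 = 0 * a + 1 * c ∧ a * 1 + b * 0 = 0 * b + 1 * d ∧
    c * 0 + d * 1 = 1 * a + 0 * c ∧ c * 1 + d * 0 = 1 * b + 0 * d) →
  (a = 2 ∧ b = 0 ∧ c = 0 ∧ d = 2)

instance (a b c d : ZMod 3) : Decidable (Chc a b c d) := by
  unfold Chc; infer_instance

theorem chc_all : ∀ a b c d : ZMod 3, Chc a b c d := by
  decide +kernel

theorem eta2 (B : Matrix (Fin 2) (Fin 2) (ZMod 3)) : B = !![B 0 0, B 0 1; B 1 0, B 1 1] := by
  ext i j; fin_cases i <;> fin_cases j <;> rfl

theorem eq_iff2 {a b c d e f g h : ZMod 3} :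
    !![a, b; c, d] = !![e, f; g, h] ↔ a = e ∧ b = f ∧ c = g ∧ d = h := by
  constructor
  · intro H
    exact ⟨congrFun (congrFun H 0) 0, congrFun (congrFun H 0) 1, congrFun (congrFun H 1) 0,
      congrFun (congrFun H 1) 1⟩
  · rintro ⟨rfl, rfl, rfl, rfl⟩; rfl

theorem one2 : (1 : Matrix (Fin 2) (Fin 2) (ZMod 3)) = !![1, 0; 0, 1] := by
  ext i j; fin_cases i <;> fin_cases j <;> rfl

/-- central involutions of `GL(2,3)` -/
theorem gl_central (A : GL (Fin 2) (ZMod 3)) (h2 : A * A = 1) (h1 : A ≠ 1)
    (hc : ∀ X, A * X = X * A) : A.val = !![2, 0; 0, 2] := by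
  let U : GL (Fin 2) (ZMod 3) :=
    Matrix.GeneralLinearGroup.mkOfDetNeZero !![1, 1; 0, 1] (by decide)
  let W : GL (Fin 2) (ZMod 3) :=
    Matrix.GeneralLinearGroup.mkOfDetNeZero !![0, 1; 1, 0] (by decide)
  have hU : A.val * !![1, 1; 0, 1] = !![1, 1; 0, 1] * A.val := congrArg Units.val (hc U)
  have hW : A.val * !![0, 1; 1, 0] = !![0, 1; 1, 0] * A.val := congrArg Units.val (hc W)
  have h2' : A.val * A.val = 1 := congrArg Units.val h2
  have h1' : A.val ≠ 1 := fun h => h1 (Units.ext h)
  generalize A.val = B at *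
  rw [eta2 B] at hU hW h2' h1' ⊢
  rw [one2] at h2' h1'
  rw [Matrix.mul_fin_two, Matrix.mul_fin_two, eq_iff2] at hU hW
  rw [Matrix.mul_fin_two, eq_iff2] at h2'
  rw [Ne, eq_iff2] at h1'
  rw [eq_iff2]
  exact chc_all (B 0 0) (B 0 1) (B 1 0) (B 1 1) h2' h1' hU hW

theorem gl_four (B X : GL (Fin 2) (ZMod 3)) (h2 : B * B = 1) (h1 : B ≠ 1)
    (hm : B.val ≠ !![2, 0; 0, 2]) (hc : B * X = X * B) :
    X.val = 1 ∨ X.val = !![2, 0; 0, 2] ∨ X.val = B.val ∨ X.val = !![2, 0; 0, 2] * B.val := by
  have h2' : B.val * B.val = 1 := congrArg Units.val h2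
  have h1' : B.val ≠ 1 := fun h => h1 (Units.ext h)
  have hc' : B.val * X.val = X.val * B.val := congrArg Units.val hc
  have hd : X.val.det ≠ 0 :=
    ((Matrix.isUnit_iff_isUnit_det _).1 X.isUnit).ne_zero
  generalize B.val = C at *
  generalize X.val = D at *
  rw [Matrix.det_fin_two] at hd
  rw [eta2 C] at h2' h1' hm hc' ⊢
  rw [eta2 D] at hc' ⊢
  rw [one2] at h2' h1' ⊢
  rw [Matrix.mul_fin_two, Matrix.mul_fin_two, eq_iff2] at hc'
  rw [Matrix.mul_fin_two, eq_iff2] at h2'
  rw [Ne, eq_iff2] at h1' hm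
  rw [Matrix.mul_fin_two, eq_iff2, eq_iff2, eq_iff2, eq_iff2]
  exact chk_all (C 0 0) (C 0 1) (C 1 0) (C 1 1) (D 0 0) (D 0 1) (D 1 0) (D 1 1) h2' h1' hm hd hc'

theorem cent_equiv (hM : IsM11 M) {u : M} (hu : orderOf u = 2) :
    Nonempty (centralizer ({u} : Set M) ≃* GL (Fin 2) (ZMod 3)) := by
  obtain ⟨p, hp⟩ : ∃ p, p ∈ Cfsg.Agent.SporadicStructure.M11InvPerms.dd := by decide +kernel
  obtain ⟨e⟩ := Cfsg.Agent.S0420.result hM _
    Cfsg.Agent.SporadicStructure.M11InvPerms.dd_mem p hp
  have hu' : orderOf (e u) = 2 := by rw [e.orderOf_eq, hu]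
  obtain ⟨f⟩ := Cfsg.Agent.S1603.result _ Cfsg.Agent.SporadicStructure.M11InvPerms.dd_mem p hp
    (e u) hu'
  have h : (centralizer ({u} : Set M)).map (e : M →* _) = centralizer ({e u} : Set _) := by
    ext x
    constructor
    · rintro ⟨y, hy, rfl⟩
      have hy' := mem_centralizer_singleton_iff.1 hy
      refine mem_centralizer_singleton_iff.2 ?_
      have := congrArg e hy'
      rwa [map_mul, map_mul] at this
    · intro hx
      refine ⟨e.symm x, mem_centralizer_singleton_iff.2 (e.injective ?_), e.apply_symm_apply x⟩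
      rw [map_mul, map_mul, e.apply_symm_apply]
      exact mem_centralizer_singleton_iff.1 hx
  exact ⟨((centralizer ({u} : Set M)).equivMapOfInjective _ e.injective).trans
    ((MulEquiv.subgroupCongr h).trans f)⟩

/-- A four-group is its own centralizer. -/
theorem cent_four (hM : IsM11 M) {a b x : M} (ha : orderOf a = 2) (hb : orderOf b = 2)
    (hne : a ≠ b) (hab : a * b = b * a) (hxa : x * a = a * x) (hxb : x * b = b * x) :
    x = 1 ∨ x = a ∨ x = b ∨ x = a * b := by
  obtain ⟨e⟩ := cent_equiv hM ha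
  have h1 : a ≠ 1 := fun h => by rw [h, orderOf_one] at ha; omega
  have h2 : b ≠ 1 := fun h => by rw [h, orderOf_one] at hb; omega
  set A : centralizer ({a} : Set M) := ⟨a, mem_centralizer_singleton_iff.2 rfl⟩ with hA
  set B : centralizer ({a} : Set M) := ⟨b, mem_centralizer_singleton_iff.2 hab.symm⟩ with hB
  set X : centralizer ({a} : Set M) := ⟨x, mem_centralizer_singleton_iff.2 hxa⟩ with hX
  have hAA : A * A = 1 := Subtype.ext (sq_of ha)
  have hBB : B * B = 1 := Subtype.ext (sq_of hb)
  have hA1 : A ≠ 1 := fun h => h1 (congrArg Subtype.val h)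
  have hB1 : B ≠ 1 := fun h => h2 (congrArg Subtype.val h)
  have hBA : B ≠ A := fun h => hne (congrArg Subtype.val h).symm
  have hcA : ∀ Y : centralizer ({a} : Set M), A * Y = Y * A := fun Y =>
    Subtype.ext (mem_centralizer_singleton_iff.1 Y.2).symm
  have hBX : B * X = X * B := Subtype.ext hxb.symm
  have k := gl_central (e A) (by rw [← map_mul, hAA, map_one])
    (fun h => hA1 (e.injective (h.trans (map_one e).symm)))
    (fun Y => by
      obtain ⟨Z, rfl⟩ := e.surjective Y
      rw [← map_mul, hcA, map_mul])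
  have k2 := gl_four (e B) (e X) (by rw [← map_mul, hBB, map_one])
    (fun h => hB1 (e.injective (h.trans (map_one e).symm)))
    (fun h => hBA (e.injective (Units.ext (h.trans k.symm))))
    (by rw [← map_mul, hBX, map_mul])
  rw [← k] at k2
  rcases k2 with h | h | h | h
  · left
    have : X = 1 := e.injective ((Units.ext h).trans (map_one e).symm)
    exact congrArg Subtype.val this
  · right; left
    have : X = A := e.injective (Units.ext h)
    exact congrArg Subtype.val this
  · right; right; left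
    have : X = B := e.injective (Units.ext h)
    exact congrArg Subtype.val this
  · right; right; right
    have : X = A * B := e.injective (Units.ext (h.trans (by rw [map_mul]; rfl)))
    exact congrArg Subtype.val this

theorem exists_three (hM : IsM11 M) {a : M} (ha : orderOf a = 2) :
    ∃ d : M, orderOf d = 3 ∧ d * a = a * d := by
  have : Fact (Nat.Prime 3) := ⟨Nat.prime_three⟩
  have h48 := Cfsg.Agent.SporadicA.M11Facts.card_centralizer_two hM ha
  obtain ⟨d, hd⟩ := exists_prime_orderOf_dvd_card' (G := centralizer ({a} : Set M)) 3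
    (by rw [h48]; norm_num)
  exact ⟨d, by rw [Subgroup.orderOf_coe, hd], mem_centralizer_singleton_iff.1 d.2⟩

/-- involutions commuting with `a` and with an element of order three commuting with `a` -/
theorem eq_of_comm_three (hM : IsM11 M) {a d h : M} (ha : orderOf a = 2) (hd : orderOf d = 3)
    (hda : d * a = a * d) (hh : h * h = 1) (hha : h * a = a * h) (hhd : h * d = d * h) :
    h = 1 ∨ h = a := by
  by_contra hcon
  push Not at hcon
  have h18 := Cfsg.Agent.SporadicA.M11Facts2.card_centralizer_three hM hd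
  have ho := orderOf_two hh hcon.1
  -- four commuting elements
  have haa := sq_of ha
  have h1 : a ≠ 1 := fun h => by rw [h, orderOf_one] at ha; omega
  let V : Subgroup M :=
    { carrier := {x | x = 1 ∨ x = a ∨ x = h ∨ x = a * h}
      one_mem' := Or.inl rfl
      mul_mem' := by
        rintro x y (rfl | rfl | rfl | rfl) (rfl | rfl | rfl | rfl)
        · left; exact one_mul 1
        · right; left; exact one_mul _
        · right; right; left; exact one_mul _
        · right; right; right; exact one_mul _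
        · right; left; exact mul_one _
        · left; exact haa
        · right; right; right; rfl
        · right; right; left; rw [← mul_assoc, haa, one_mul]
        · right; right; left; exact mul_one _
        · right; right; right; exact hha
        · left; exact hh
        · right; left; rw [← mul_assoc, hha, mul_assoc, hh, mul_one]
        · right; right; right; exact mul_one _
        · right; right; left; rw [mul_assoc, hha, ← mul_assoc, haa, one_mul]
        · right; left; rw [mul_assoc, hh, mul_one]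
        · left
          calc a * h * (a * h) = a * (h * a) * h := by group
            _ = (a * a) * (h * h) := by rw [hha]; group
            _ = 1 := by rw [haa, hh, one_mul]
      inv_mem' := by
        rintro x (rfl | rfl | rfl | rfl)
        · left; exact inv_one
        · right; left; exact inv_eq_of_mul_eq_one_left haa
        · right; right; left; exact inv_eq_of_mul_eq_one_left hh
        · right; right; right
          rw [mul_inv_rev, inv_eq_of_mul_eq_one_left haa, inv_eq_of_mul_eq_one_left hh, hha] }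
  have hV4 : Nat.card V = 4 := by
    have : (V : Set M) = {1, a, h, a * h} := by
      ext x
      simp [V, Set.mem_insert_iff]
    rw [← SetLike.coe_sort_coe, this, Nat.card_coe_set_eq]
    rw [Set.ncard_insert_of_notMem, Set.ncard_insert_of_notMem, Set.ncard_insert_of_notMem,
      Set.ncard_singleton]
    · intro h'
      rw [Set.mem_singleton_iff] at h'
      exact h1 (by
        have := congrArg (· * h) h'
        simp only [mul_assoc, hh, mul_one] at this
        exact this.symm)
    · rintro (h' | h')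
      · exact hcon.2 h'.symm
      · rw [Set.mem_singleton_iff] at h'
        exact hcon.1 (by
          have := congrArg (a⁻¹ * ·) h'
          simp only [inv_mul_cancel, inv_mul_cancel_left] at this
          exact this.symm)
    · rintro (h' | h' | h')
      · exact h1 h'.symm
      · exact hcon.1 h'.symm
      · rw [Set.mem_singleton_iff] at h'
        exact hcon.2 (by
          have := congrArg (a⁻¹ * ·) h'
          simp only [inv_mul_cancel_left, mul_one] at this
          rw [← this, inv_eq_of_mul_eq_one_left haa])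
  have hle : V ≤ centralizer ({d} : Set M) := by
    rintro x (rfl | rfl | rfl | rfl)
    · exact one_mem _
    · exact mem_centralizer_singleton_iff.2 hda.symm
    · exact mem_centralizer_singleton_iff.2 hhd
    · exact mul_mem (mem_centralizer_singleton_iff.2 hda.symm) (mem_centralizer_singleton_iff.2 hhd)
  have := card_dvd_of_le hle
  rw [hV4, h18] at this
  norm_num at this

theorem mem_of_sq_mem {G : Type*} [Group G] {H : Subgroup G} {y : G} (hy : Odd (orderOf y))
    (h : y * y ∈ H) : y ∈ H := by
  obtain ⟨k, hk⟩ := hy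
  have h1 : (y * y) ^ (k + 1) = y := by
    rw [← pow_two, ← pow_mul]
    have : 2 * (k + 1) = orderOf y + 1 := by omega
    rw [this, pow_succ, pow_orderOf_eq_one, one_mul]
  rw [← h1]
  exact pow_mem h _

theorem ne_inv_of_odd {G : Type*} [Group G] {y : G} (hy : Odd (orderOf y)) (h1 : y ≠ 1) :
    y ≠ y⁻¹ := by
  intro h
  have h2 : y * y ∈ (⊥ : Subgroup G) := by
    rw [mem_bot]
    nth_rw 2 [h]
    exact mul_inv_cancel y
  exact h1 (mem_bot.1 (mem_of_sq_mem hy h2))

/-- the elements inverted by `a` in the centralizer of an element of order three -/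
theorem three_data (hM : IsM11 M) {a d : M} (ha : orderOf a = 2) (hd : orderOf d = 3)
    (hda : d * a = a * d) : ∃ s : M, s ≠ 1 ∧ Odd (orderOf s) ∧ s * d = d * s ∧
      a * s * a⁻¹ = s⁻¹ ∧ ∀ y : M, y * d = d * y → a * y * a⁻¹ = y⁻¹ → Odd (orderOf y) →
        y = 1 ∨ y = s ∨ y = s⁻¹ := by
  classical
  have p3 : Fact (Nat.Prime 3) := ⟨Nat.prime_three⟩
  have h18 := Cfsg.Agent.SporadicA.M11Facts2.card_centralizer_three hM hd
  have h48 := Cfsg.Agent.SporadicA.M11Facts.card_centralizer_two hM ha
  set C := centralizer ({d} : Set M) with hC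
  obtain ⟨P⟩ : Nonempty (Sylow 3 C) := inferInstance
  have hP9 : Nat.card P = 9 := by
    rw [P.card_eq_multiplicity, h18]
    have : (18 : ℕ).factorization 3 = 2 := by
      rw [show (18 : ℕ) = 3 ^ 2 * 2 by norm_num, Nat.factorization_mul (by norm_num) (by norm_num),
        Nat.Prime.factorization_pow Nat.prime_three]
      simp [Nat.factorization_eq_zero_of_not_dvd]
    rw [this]; norm_num
  have hind : (P : Subgroup C).index = 2 := by
    have := (P : Subgroup C).card_mul_index
    rw [h18] at this
    have h9 : Nat.card (P : Subgroup C) = 9 := hP9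
    rw [h9] at this
    omega
  have hPn : (P : Subgroup C).Normal := normal_of_index_eq_two hind
  set P0 : Subgroup M := (P : Subgroup C).map C.subtype with hP0
  have hc9 : Nat.card P0 = 9 := by
    rw [hP0, Subgroup.card_map_of_injective (subtype_injective C)]
    exact hP9
  have haC : a ∈ C := mem_centralizer_singleton_iff.2 hda.symm
  have hmem : ∀ y : M, y * d = d * y → Odd (orderOf y) → y ∈ P0 := by
    intro y hy hodd
    refine ⟨⟨y, mem_centralizer_singleton_iff.2 hy⟩, ?_, rfl⟩
    refine mem_of_sq_mem (by rw [← Subgroup.orderOf_coe]; exact hodd) ?_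
    have := Subgroup.sq_mem_of_index_two hind (⟨y, mem_centralizer_singleton_iff.2 hy⟩ : C)
    rw [pow_two] at this
    exact this
  have hcomm : ∀ y ∈ P0, y * d = d * y := by
    rintro _ ⟨y, _, rfl⟩
    exact mem_centralizer_singleton_iff.1 y.2
  have hodd : ∀ y ∈ P0, Odd (orderOf y) := by
    intro y hy
    have h1 : orderOf y ∣ 9 := by
      rw [← hc9]
      have := orderOf_dvd_natCard (⟨y, hy⟩ : P0)
      rwa [← Subgroup.orderOf_coe] at this
    exact Odd.of_dvd_nat (by decide) h1
  have hconj : ∀ y ∈ P0, a * y * a⁻¹ ∈ P0 := by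
    rintro _ ⟨y, hy, rfl⟩
    exact ⟨⟨a, haC⟩ * y * (⟨a, haC⟩ : C)⁻¹, hPn.conj_mem y hy ⟨a, haC⟩, rfl⟩
  have haa := sq_of ha
  have hai : a⁻¹ = a := inv_eq_of_mul_eq_one_left haa
  have hcard := Cfsg.Agent.Lib.KleinOrder.card_eq_fix_mul_inv P0 (by rw [hc9]; decide)
    (MulAut.conj a).toMonoidHom (fun g => by
      change a * (a * g * a⁻¹) * a⁻¹ = g
      calc a * (a * g * a⁻¹) * a⁻¹ = (a * a) * g * (a * a)⁻¹ := by group
        _ = g := by rw [haa]; group) hconj
  have hfix : Nat.card {h : M // h ∈ P0 ∧ (MulAut.conj a).toMonoidHom h = h} =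
      Nat.card (P0 ⊓ centralizer ({a} : Set M) : Subgroup M) := by
    apply Nat.card_congr
    refine Equiv.subtypeEquivRight fun x => ?_
    rw [mem_inf, mem_centralizer_singleton_iff]
    refine and_congr Iff.rfl ?_
    change a * x * a⁻¹ = x ↔ _
    rw [mul_inv_eq_iff_eq_mul]
    exact eq_comm
  rw [hc9, hfix] at hcard
  have hd9 : Nat.card (P0 ⊓ centralizer ({a} : Set M) : Subgroup M) ∣ 9 := by
    rw [← hc9]; exact card_dvd_of_le inf_le_left
  have hd48 : Nat.card (P0 ⊓ centralizer ({a} : Set M) : Subgroup M) ∣ 48 := by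
    rw [← h48]; exact card_dvd_of_le inf_le_right
  have hd3 : Nat.card (P0 ⊓ centralizer ({a} : Set M) : Subgroup M) ∣ 3 := by
    have := Nat.dvd_gcd hd9 hd48
    norm_num at this
    exact this
  have hdP : d ∈ P0 ⊓ centralizer ({a} : Set M) :=
    mem_inf.2 ⟨hmem d rfl (by rw [hd]; decide), mem_centralizer_singleton_iff.2 hda⟩
  have hne1 : Nat.card (P0 ⊓ centralizer ({a} : Set M) : Subgroup M) ≠ 1 := by
    intro h
    rw [Subgroup.card_eq_one] at h
    rw [h, mem_bot] at hdP
    rw [hdP, orderOf_one] at hd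
    omega
  have h3 : Nat.card (P0 ⊓ centralizer ({a} : Set M) : Subgroup M) = 3 :=
    ((Nat.dvd_prime Nat.prime_three).1 hd3).resolve_left hne1
  rw [h3] at hcard
  have hI3 : Nat.card {h : M // h ∈ P0 ∧ (MulAut.conj a).toMonoidHom h = h⁻¹} = 3 := by omega
  -- the set of inverted elements
  set I : Set M := {h : M | h ∈ P0 ∧ a * h * a⁻¹ = h⁻¹} with hI
  have hIc : I.ncard = 3 := by rw [← hI3]; rfl
  have h1I : (1 : M) ∈ I := ⟨one_mem _, by group⟩
  obtain ⟨s, hsI, hs1⟩ : ∃ s ∈ I, s ≠ 1 := by
    by_contra hcon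
    push Not at hcon
    have : I ⊆ {1} := fun x hx => hcon x hx
    have := Set.ncard_le_ncard this
    rw [hIc, Set.ncard_singleton] at this
    omega
  have hso := hodd s hsI.1
  have hsi : s⁻¹ ∈ I := ⟨inv_mem hsI.1, by
    calc a * s⁻¹ * a⁻¹ = (a * s * a⁻¹)⁻¹ := by group
      _ = (s⁻¹)⁻¹ := by rw [hsI.2]⟩
  refine ⟨s, hs1, hso, hcomm s hsI.1, hsI.2, ?_⟩
  intro y hy hya hyo
  have hyI : y ∈ I := ⟨hmem y hy hyo, hya⟩
  have hsub : ({1, s, s⁻¹} : Set M) ⊆ I := by
    rintro x (rfl | rfl | rfl)
    · exact h1I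
    · exact hsI
    · exact hsi
  have hcard3 : ({1, s, s⁻¹} : Set M).ncard = 3 := by
    rw [Set.ncard_insert_of_notMem, Set.ncard_insert_of_notMem, Set.ncard_singleton]
    · intro h
      exact ne_inv_of_odd hso hs1 h
    · rintro (h | h)
      · exact hs1 h.symm
      · rw [Set.mem_singleton_iff] at h
        exact hs1 (inv_eq_one.1 h.symm)
  have := Set.eq_of_subset_of_ncard_le hsub (by rw [hIc, hcard3]) (Set.toFinite _)
  rw [← this] at hyI
  rcases hyI with h | h | h
  · exact Or.inl h
  · exact Or.inr (Or.inl h)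
  · exact Or.inr (Or.inr h)

section act

variable {G : Type*} [Group G] [Finite G]

/-- Every automorphism induced by conjugation is inner. -/
theorem inner {J : Subgroup G} (hJ : IsM11 J) {c : G} (hc : ∀ x ∈ J, c * x * c⁻¹ ∈ J) :
    ∃ j ∈ J, ∀ x ∈ J, c * x * c⁻¹ = j * x * j⁻¹ := by
  let φ : J →* J :=
    { toFun := fun x => ⟨c * x * c⁻¹, hc x x.2⟩
      map_one' := Subtype.ext (by simp)
      map_mul' := fun x y => Subtype.ext (by simp only [Subgroup.coe_mul]; group) }
  have hinj : Function.Injective φ := by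
    intro x y hxy
    have : c * (x : G) * c⁻¹ = c * y * c⁻¹ := congrArg Subtype.val hxy
    exact Subtype.ext (mul_left_cancel (mul_right_cancel this))
  have hbij : Function.Bijective φ := Finite.injective_iff_bijective.1 hinj
  obtain ⟨g, hg⟩ := Cfsg.Agent.SectRankFour.AutM11.exists_conj hJ (MulEquiv.ofBijective φ hbij)
  refine ⟨g, g.2, fun x hx => ?_⟩
  have := congrArg (fun f => ((f ⟨x, hx⟩ : J) : G)) hg
  exact this

theorem eq_one_of_comm {J : Subgroup G} (hJ : IsM11 J) {j : G} (hj : j ∈ J)
    (h : ∀ x ∈ J, j * x = x * j) : j = 1 := by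
  have := eq_one_of_central hJ (z := ⟨j, hj⟩) fun x => Subtype.ext (h x x.2)
  exact congrArg Subtype.val this

/-- A group isomorphic to a simple group of order 7920 acting on `J` and fixing an element with
a small centralizer acts trivially. -/
theorem triv {K : Type*} [Group K] [Finite K] (hK : IsM11 K) {J : Subgroup G} (hJ : IsM11 J)
    (α : K →* G) (hα : ∀ a, ∀ x ∈ J, α a * x * (α a)⁻¹ ∈ J) {d : G} (hd : d ∈ J)
    (hfix : ∀ a, α a * d = d * α a)
    (hcard : Nat.card (centralizer ({⟨d, hd⟩} : Set J)) < 7920) (a : K) {x : G} (hx : x ∈ J) :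
    α a * x = x * α a := by
  have hKs := hK.1
  let ψ : K →* MulAut J :=
    { toFun := fun a =>
        { toFun := fun x => ⟨α a * x * (α a)⁻¹, hα a x x.2⟩
          invFun := fun x => ⟨α a⁻¹ * x * (α a⁻¹)⁻¹, hα a⁻¹ x x.2⟩
          left_inv := fun x => Subtype.ext (by simp only [map_inv]; group)
          right_inv := fun x => Subtype.ext (by simp only [map_inv]; group)
          map_mul' := fun x y => Subtype.ext (by simp only [Subgroup.coe_mul]; group) }
      map_one' := by
        ext x
        change α 1 * (x : G) * (α 1)⁻¹ = x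
        rw [map_one]; group
      map_mul' := fun a b => by
        ext x
        change α (a * b) * (x : G) * (α (a * b))⁻¹ = α a * (α b * (x : G) * (α b)⁻¹) * (α a)⁻¹
        rw [map_mul]; group }
  have hψ : ∀ a (x : J), ((ψ a x : J) : G) = α a * x * (α a)⁻¹ := fun a x => rfl
  rcases hKs.eq_bot_or_eq_top_of_normal ψ.ker inferInstance with h | h
  · exfalso
    have hinj : Function.Injective ψ := (MonoidHom.ker_eq_bot_iff ψ).1 h
    have hex : ∀ a, ∃ g : centralizer ({⟨d, hd⟩} : Set J), ψ a = MulAut.conj (g : J) := by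
      intro a
      obtain ⟨g, hg⟩ := Cfsg.Agent.SectRankFour.AutM11.exists_conj hJ (ψ a)
      refine ⟨⟨g, mem_centralizer_singleton_iff.2 ?_⟩, hg⟩
      have h1 : ψ a ⟨d, hd⟩ = ⟨d, hd⟩ := by
        apply Subtype.ext
        rw [hψ]
        change α a * d * (α a)⁻¹ = d
        rw [hfix a]; group
      rw [hg] at h1
      change g * ⟨d, hd⟩ * g⁻¹ = _ at h1
      exact mul_inv_eq_iff_eq_mul.1 h1
    choose f hf using hex
    have hfinj : Function.Injective f := by
      intro a b hab
      apply hinj
      rw [hf a, hf b, hab]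
    have := Nat.card_le_card_of_injective f hfinj
    rw [hK.2] at this
    omega
  · have h1 : ψ a = 1 := by
      have : a ∈ ψ.ker := by rw [h]; trivial
      exact this
    have h2 := hψ a ⟨x, hx⟩
    rw [h1] at h2
    change x = α a * x * (α a)⁻¹ at h2
    exact (mul_inv_eq_iff_eq_mul.1 h2.symm)

end act

section orbits

variable {Ω : Type*} [MulAction M Ω]

/-- orbit lengths of a simple group of order 7920 -/
theorem orbit_card (hM : IsM11 M) (ω : Ω) : (MulAction.orbit M ω).ncard ∣ 7920 ∧
    ((MulAction.orbit M ω).ncard = 1 ∨ 11 ≤ (MulAction.orbit M ω).ncard) := by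
  classical
  have hMs := hM.1
  set H := MulAction.stabilizer M ω with hH
  have hidx : (MulAction.orbit M ω).ncard = H.index := (MulAction.index_stabilizer M ω).symm
  rw [hidx]
  have hdvd : H.index ∣ 7920 := by rw [← hM.2]; exact H.index_dvd_card
  refine ⟨hdvd, ?_⟩
  rcases hMs.eq_bot_or_eq_top_of_normal H.normalCore inferInstance with h | h
  · right
    by_contra hlt
    push Not at hlt
    have hinj : Function.Injective (MulAction.toPermHom M (M ⧸ H)) := by
      rw [← MonoidHom.ker_eq_bot_iff, ← Subgroup.normalCore_eq_ker, h]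
    have hd := Subgroup.card_dvd_of_injective _ hinj
    rw [hM.2, Nat.card_perm] at hd
    have h11 : 11 ∣ (Nat.card (M ⧸ H)).factorial := Dvd.dvd.trans (by norm_num) hd
    have := (Nat.Prime.dvd_factorial (by norm_num)).1 h11
    change 11 ≤ H.index at this
    omega
  · left
    have : H = ⊤ := top_le_iff.1 (h ▸ H.normalCore_le)
    rw [this]; exact Subgroup.index_top

/-- no union of orbits of even length has length 26 or 2 -/
theorem no_orbits [Finite Ω] (hM : IsM11 M)
    (heven : ∀ ω : Ω, Even (MulAction.orbit M ω).ncard) (hc : Nat.card Ω = 26 ∨ Nat.card Ω = 2) :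
    False := by
  classical
  have hlow : ∀ ω : Ω, 12 ≤ (MulAction.orbit M ω).ncard := by
    intro ω
    obtain ⟨-, h | h⟩ := orbit_card hM ω
    · have := heven ω
      rw [h] at this
      exact absurd this (by decide)
    · rcases Nat.lt_or_ge 11 (MulAction.orbit M ω).ncard with h' | h'
      · exact h'
      · have h'' : (MulAction.orbit M ω).ncard = 11 := le_antisymm h' h
        have := heven ω
        rw [h''] at this
        exact absurd this (by decide)
  have hup : ∀ s : Set Ω, s.ncard ≤ Nat.card Ω := fun s => by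
    rw [← Set.ncard_univ]
    exact Set.ncard_le_ncard (Set.subset_univ _) (Set.toFinite _)
  have hdisj : ∀ ω ω' : Ω, ω' ∉ MulAction.orbit M ω →
      Disjoint (MulAction.orbit M ω) (MulAction.orbit M ω') := by
    intro ω ω' hn
    rw [Set.disjoint_left]
    intro x hx hx'
    apply hn
    rw [← MulAction.orbit_eq_iff] at hx hx' ⊢
    rw [← hx', hx]
  have hne : Nonempty Ω := by
    by_contra h
    rw [not_nonempty_iff] at h
    rw [Nat.card_of_isEmpty] at hc
    omega
  obtain ⟨ω⟩ := hne
  have h1 := hlow ω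
  have h2 := hup (MulAction.orbit M ω)
  have h26 : Nat.card Ω = 26 := by omega
  obtain ⟨hd, -⟩ := orbit_card hM ω
  have hcompl : ∀ s : Set Ω, s.ncard < 26 → ∃ x, x ∉ s := by
    intro s hs
    by_contra hcon
    push Not at hcon
    have : s = Set.univ := Set.eq_univ_of_forall hcon
    rw [this, Set.ncard_univ] at hs
    omega
  have hlt : (MulAction.orbit M ω).ncard < 26 := by
    rcases Nat.lt_or_ge (MulAction.orbit M ω).ncard 26 with h | h
    · exact h
    · have : (MulAction.orbit M ω).ncard = 26 := by omega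
      rw [this] at hd
      norm_num at hd
  obtain ⟨ω', hω'⟩ := hcompl _ hlt
  have h1' := hlow ω'
  obtain ⟨hd', -⟩ := orbit_card hM ω'
  have hu := hup (MulAction.orbit M ω ∪ MulAction.orbit M ω')
  rw [Set.ncard_union_eq (hdisj _ _ hω')] at hu
  have e1 := heven ω
  have e2 := heven ω'
  have h24 : (MulAction.orbit M ω).ncard + (MulAction.orbit M ω').ncard = 24 := by
    generalize (MulAction.orbit M ω).ncard = n at *
    generalize (MulAction.orbit M ω').ncard = n' at *
    rw [h26] at hu
    have : n ≤ 14 := by omega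
    have : n' ≤ 14 := by omega
    interval_cases n <;> interval_cases n' <;> first | rfl | (exfalso; revert hd hd' e1 e2 hu; decide)
  obtain ⟨ω'', hω''⟩ := hcompl (MulAction.orbit M ω ∪ MulAction.orbit M ω') (by
    rw [Set.ncard_union_eq (hdisj _ _ hω'), h24]; norm_num)
  have h1'' := hlow ω''
  have hu' := hup ((MulAction.orbit M ω ∪ MulAction.orbit M ω') ∪ MulAction.orbit M ω'')
  have hd3 : Disjoint (MulAction.orbit M ω ∪ MulAction.orbit M ω') (MulAction.orbit M ω'') := by
    rw [Set.disjoint_union_left]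
    exact ⟨hdisj _ _ fun h => hω'' (Or.inl h), hdisj _ _ fun h => hω'' (Or.inr h)⟩
  rw [Set.ncard_union_eq hd3, Set.ncard_union_eq (hdisj _ _ hω'), h24] at hu'
  omega

end orbits

end Cfsg.Agent.SylowLFive.MElevenFacts
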