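import Mathlib
import Cfsg.Prelude.Def_Involutions
import Cfsg.Agent.TwoFusion.StronglyEmbeddedBasic
import Cfsg.Agent.S0257
import Cfsg.Agent.SylowLFive.MElevenFacts
import Cfsg.Agent.S0215
import Cfsg.Agent.S1180
import Cfsg.Agent.TypeLFive.LThreeFacts_mg
import Cfsg.Prelude.Def_CaseTheorems
import Cfsg.Prelude.Def_Sporadic
import Cfsg.Agent.TypeLFive.LThreeFrame
import Cfsg.Agent.FastGrp
import Cfsg.Agent.Prune
set_option linter.all false

section
prune_inst 0x7ffcfdfbaff8bfffffff7e7ffffbdffe39d0dfffffdffb4bfffcebffbfff230e3fe5fbaf9de0d0ff5ff6e296b0b87853f9ffdeffef6bdc7ffffd5ff45ffbee5ff7ffbfa851d798340ffc6ffffbf17f8e7f3fffffffffffffffffffffffffffbeffffffffffff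

-- part: SylowLFive/Frame
section
prune_inst 0x200000500000000018000040001c4292000002004b00003140040004ce1c00a0400621c0200a00000204542030006002100000020000000000000041180080000040008208a10020000000a006000000000000000000000000000000041000000000000
set_option linter.all false
open scoped Cfsg.Agent.FastGrp

-- part: SylowLFive/Closing
section
/-!
# Closing with two classes of involutions

`G` finite, `M ≤ G`, `t` and `z` involutions of `M`, not conjugate in `G`, such that every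
involution of `G` is conjugate to `t` or to `z`, every involution of `M` is `M`-conjugate to `t` or
to `z`, `C_G(t) ≤ M`, the product of two commuting different conjugates of `z` is conjugate to `t`,
and `M` contains `d`, `e` conjugate to `t` and commuting with `z` such that `d z` is conjugate
to `z` and `e z` is conjugate to `t`. Then `M = G`. Nothing is assumed on `C_G(z)`.
-/

set_option autoImplicit false

namespace Cfsg.Agent.SylowLFive.Closing

open Cfsg Cfsg.Agent.TwoFusion.StronglyEmbeddedBasic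

/-- Hypotheses of the closing theorem. -/
structure Hyp {G : Type*} [Group G] (M : Subgroup G) (t z : G) : Prop where
  ht : orderOf t = 2
  hz : orderOf z = 2
  tM : t ∈ M
  zM : z ∈ M
  /-- two classes of involutions in `G` -/
  all : ∀ u : G, orderOf u = 2 → (∃ g : G, g * t * g⁻¹ = u) ∨ ∃ g : G, g * z * g⁻¹ = u
  /-- two classes of involutions in `M` -/
  cls : ∀ u ∈ M, orderOf u = 2 → (∃ m ∈ M, m * t * m⁻¹ = u) ∨ ∃ m ∈ M, m * z * m⁻¹ = u
  ne : ∀ g : G, g * t * g⁻¹ ≠ z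
  ct : ∀ g : G, g * t = t * g → g ∈ M
  zprod : ∀ g : G, (g * z * g⁻¹) * z = z * (g * z * g⁻¹) → g * z * g⁻¹ ≠ z →
    ∃ h : G, h * t * h⁻¹ = z * (g * z * g⁻¹)
  d : ∃ d ∈ M, d * z = z * d ∧ (∃ g : G, g * t * g⁻¹ = d) ∧ ∃ g : G, g * z * g⁻¹ = d * z
  e : ∃ e ∈ M, e * z = z * e ∧ (∃ g : G, g * t * g⁻¹ = e) ∧ ∃ g : G, g * t * g⁻¹ = e * z

section

variable {G : Type*} [Group G] {M : Subgroup G} {t z : G}

/-- No element is conjugate to `t` and to `z`. -/
theorem Hyp.not_both (H : Hyp M t z) {u : G} (h1 : ∃ g : G, g * t * g⁻¹ = u)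
    (h2 : ∃ g : G, g * z * g⁻¹ = u) : False := by
  obtain ⟨g, hg⟩ := h1
  obtain ⟨k, hk⟩ := h2
  apply H.ne (k⁻¹ * g)
  calc k⁻¹ * g * t * (k⁻¹ * g)⁻¹ = k⁻¹ * (g * t * g⁻¹) * k := by group
    _ = k⁻¹ * (k * z * k⁻¹) * k := by rw [hg, hk]
    _ = z := by group

theorem orderOf_of_conj {a u : G} (ha : orderOf a = 2) (h : ∃ g : G, g * a * g⁻¹ = u) :
    orderOf u = 2 := by
  obtain ⟨g, rfl⟩ := h
  rw [orderOf_conj, ha]

/-- A conjugate of `t` in `M` is an `M`-conjugate of `t`. -/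
theorem Hyp.conj_t (H : Hyp M t z) {u : G} (hu : u ∈ M) (h : ∃ g : G, g * t * g⁻¹ = u) :
    ∃ m ∈ M, m * t * m⁻¹ = u := by
  rcases H.cls u hu (orderOf_of_conj H.ht h) with h1 | ⟨m, _, hm⟩
  · exact h1
  · exact (H.not_both h ⟨m, hm⟩).elim

/-- A conjugate of `z` in `M` is an `M`-conjugate of `z`. -/
theorem Hyp.conj_z (H : Hyp M t z) {u : G} (hu : u ∈ M) (h : ∃ g : G, g * z * g⁻¹ = u) :
    ∃ m ∈ M, m * z * m⁻¹ = u := by
  rcases H.cls u hu (orderOf_of_conj H.hz h) with ⟨m, _, hm⟩ | h1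
  · exact (H.not_both ⟨m, hm⟩ h).elim
  · exact h1

/-- If `g` conjugates a conjugate of `t` lying in `M` into `M` then `g ∈ M`. -/
theorem Hyp.mem_of_conj (H : Hyp M t z) {u g : G} (hu : u ∈ M) (h : ∃ g : G, g * t * g⁻¹ = u)
    (hg : g * u * g⁻¹ ∈ M) : g ∈ M := by
  obtain ⟨m, hm, hmu⟩ := H.conj_t hu h
  have h2 : ∃ k : G, k * t * k⁻¹ = g * u * g⁻¹ := by
    obtain ⟨k, hk⟩ := h
    exact ⟨g * k, by rw [← hk]; group⟩
  obtain ⟨n, hn, hnu⟩ := H.conj_t hg h2
  have h3 : n⁻¹ * (g * m) ∈ M := by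
    apply H.ct
    have e1 : g * m * t * (g * m)⁻¹ = n * t * n⁻¹ := by
      rw [hnu, ← hmu]; group
    calc n⁻¹ * (g * m) * t = n⁻¹ * (g * m * t * (g * m)⁻¹) * (g * m) := by group
      _ = n⁻¹ * (n * t * n⁻¹) * (g * m) := by rw [e1]
      _ = t * (n⁻¹ * (g * m)) := by group
  have h4 : g = n * (n⁻¹ * (g * m)) * m⁻¹ := by group
  rw [h4]
  exact mul_mem (mul_mem hn h3) (inv_mem hm)

/-- The centralizer of a conjugate of `t` lying in `M` is contained in `M`. -/
theorem Hyp.mem_of_comm (H : Hyp M t z) {u g : G} (hu : u ∈ M) (h : ∃ g : G, g * t * g⁻¹ = u)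
    (hg : g * u = u * g) : g ∈ M := by
  refine H.mem_of_conj hu h ?_
  rw [hg, mul_inv_cancel_right]
  exact hu

/-- For an involution `v ≠ z` commuting with `z`, `v` or `z v` is conjugate to `t`. -/
theorem Hyp.or_mul (H : Hyp M t z) {v : G} (hv : orderOf v = 2) (hvz : v ≠ z)
    (hc : v * z = z * v) : (∃ g : G, g * t * g⁻¹ = v) ∨ ∃ g : G, g * t * g⁻¹ = z * v := by
  rcases H.all v hv with h | ⟨g, hg⟩
  · exact Or.inl h
  · right
    have := H.zprod g (by rw [hg]; exact hc) (by rw [hg]; exact hvz)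
    rwa [hg] at this

/-- **Key step**: the centralizer of `z` is contained in `M`. -/
theorem Hyp.cz [Finite G] (H : Hyp M t z) {x : G} (hx : x * z = z * x) : x ∈ M := by
  obtain ⟨d, hdM, hdz, hdt, hdz'⟩ := H.d
  obtain ⟨e, heM, hez, het, hez'⟩ := H.e
  have hzz : z * z = 1 := mul_self_of_orderOf H.hz
  have hdd : d * d = 1 := mul_self_of_orderOf (orderOf_of_conj H.ht hdt)
  -- the conjugate `f` of `e`
  set f := x * e * x⁻¹ with hf
  have hft : ∃ g : G, g * t * g⁻¹ = f := by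
    obtain ⟨g, hg⟩ := het
    exact ⟨x * g, by rw [hf, ← hg]; group⟩
  have hff : f * f = 1 := mul_self_of_orderOf (orderOf_of_conj H.ht hft)
  have hxz : x⁻¹ * z = z * x⁻¹ := by
    calc x⁻¹ * z = x⁻¹ * (z * x) * x⁻¹ := by group
      _ = x⁻¹ * (x * z) * x⁻¹ := by rw [hx]
      _ = z * x⁻¹ := by group
  have hfz : f * z = z * f := by
    calc x * e * x⁻¹ * z = x * e * (x⁻¹ * z) := by group
      _ = x * (e * z) * x⁻¹ := by rw [hxz]; group
      _ = (x * z) * e * x⁻¹ := by rw [hez]; group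
      _ = z * (x * e * x⁻¹) := by rw [hx]; group
  have hfz' : ∃ g : G, g * t * g⁻¹ = f * z := by
    obtain ⟨g, hg⟩ := hez'
    refine ⟨x * g, ?_⟩
    calc x * g * t * (x * g)⁻¹ = x * (g * t * g⁻¹) * x⁻¹ := by group
      _ = x * (e * z) * x⁻¹ := by rw [hg]
      _ = x * e * (z * x⁻¹) := by group
      _ = x * e * (x⁻¹ * z) := by rw [hxz]
      _ = x * e * x⁻¹ * z := by group
  -- the rotation
  set r := d * f with hr
  have hdi : d⁻¹ = d := inv_eq_of_mul_eq_one_right hdd
  have hfi : f⁻¹ = f := inv_eq_of_mul_eq_one_right hff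
  have hri : r⁻¹ = f * d := by rw [hr, mul_inv_rev, hdi, hfi]
  have hsc : SemiconjBy d r r⁻¹ := by
    show d * r = r⁻¹ * d
    rw [hri, hr, ← mul_assoc, hdd, mul_assoc, hdd]; simp
  have hdk : ∀ k : ℕ, d * r ^ k = (r ^ k)⁻¹ * d := by
    intro k
    have := (hsc.pow_right k).eq
    rwa [inv_pow] at this
  have hrz : Commute r z := by
    show d * f * z = z * (d * f)
    rw [mul_assoc, hfz, ← mul_assoc, hdz, mul_assoc]
  have hrkz : ∀ k : ℕ, r ^ k * z = z * r ^ k := fun k => (hrz.pow_left k).eq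
  -- the least `n > 0` with `r ^ n ∈ {1, z}`
  have hex : ∃ n : ℕ, 0 < n ∧ (r ^ n = 1 ∨ r ^ n = z) := ⟨orderOf r, orderOf_pos r,
    Or.inl (pow_orderOf_eq_one r)⟩
  classical
  obtain ⟨hn0, hn⟩ := Nat.find_spec hex
  have hmin := fun m => Nat.find_min hex (m := m)
  set n := Nat.find hex with hnn
  rcases Nat.even_or_odd' n with ⟨k, hk | hk⟩
  · -- even case
    have hk0 : 0 < k := by omega
    have hkn : k < n := by omega
    set v := r ^ k with hv
    have hv1 : v ≠ 1 := fun h => hmin k hkn ⟨hk0, Or.inl h⟩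
    have hvz : v ≠ z := fun h => hmin k hkn ⟨hk0, Or.inr h⟩
    have hvv' : v * v = r ^ n := by rw [hv, ← pow_add, hk, two_mul]
    have hvd : d * v = v⁻¹ * d := hdk k
    have hvv : v * v = 1 := by
      rcases hn with h | h
      · rw [hvv', h]
      · exfalso
        -- `v² = z`: then `d` and `d z` are conjugate
        have h1 : v * v = z := by rw [hvv', h]
        have h2 : ∃ g : G, g * t * g⁻¹ = d * z := by
          obtain ⟨g, hg⟩ := hdt
          refine ⟨v⁻¹ * g, ?_⟩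
          calc v⁻¹ * g * t * (v⁻¹ * g)⁻¹ = v⁻¹ * (g * t * g⁻¹) * v := by group
            _ = v⁻¹ * d * v := by rw [hg]
            _ = d * v * v := by rw [← hvd]
            _ = d * z := by rw [mul_assoc, h1]
        exact H.not_both h2 hdz'
    have hvi : v⁻¹ = v := inv_eq_of_mul_eq_one_right hvv
    have hvd' : v * d = d * v := by rw [hvd, hvi]
    have hvo : orderOf v = 2 := orderOf_eq_two_of_mul_self hvv hv1
    have hvzc : v * z = z * v := hrkz k
    -- `v` commutes with `f = d r`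
    have hfd : f = d * r := by rw [hr, ← mul_assoc, hdd, one_mul]
    have hvf : v * f = f * v := by
      have hvr : v * r = r * v := by rw [hv, ← pow_succ, ← pow_succ']
      calc v * f = v * (d * r) := by rw [← hfd]
        _ = (v * d) * r := (mul_assoc v d r).symm
        _ = (d * v) * r := by rw [hvd']
        _ = d * (v * r) := mul_assoc d v r
        _ = d * (r * v) := by rw [hvr]
        _ = (d * r) * v := (mul_assoc d r v).symm
        _ = f * v := by rw [← hfd]
    -- a conjugate `w` of `t` commuting with `d` and `f`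
    obtain ⟨w, hwt, hwd, hwf⟩ : ∃ w : G, (∃ g : G, g * t * g⁻¹ = w) ∧ w * d = d * w ∧
        w * f = f * w := by
      rcases H.or_mul hvo hvz hvzc with h | h
      · exact ⟨v, h, hvd', hvf⟩
      · refine ⟨z * v, h, ?_, ?_⟩
        · rw [mul_assoc, hvd', ← mul_assoc, ← hdz, mul_assoc]
        · rw [mul_assoc, hvf, ← mul_assoc, ← hfz, mul_assoc]
    have hwM : w ∈ M := H.mem_of_comm hdM hdt hwd
    have hfM : f ∈ M := H.mem_of_comm hwM hwt hwf.symm
    exact H.mem_of_conj heM het hfM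
  · -- odd case
    exfalso
    have h1 : (r ^ k)⁻¹ * d * r ^ k = (d * f * d) * r ^ n := by
      calc (r ^ k)⁻¹ * d * r ^ k = d * r ^ k * r ^ k := by rw [← hdk]
        _ = d * r ^ (2 * k) := by rw [mul_assoc, ← pow_add, two_mul]
        _ = d * (r⁻¹ * r ^ (2 * k + 1)) := by rw [pow_succ']; group
        _ = d * (f * d * r ^ n) := by rw [hri, hk]
        _ = (d * f * d) * r ^ n := by group
    -- `d` is conjugate to `f` or `f z`, both by an element commuting with `z`
    have hdr : (d * r ^ k) * z = z * (d * r ^ k) := by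
      rw [mul_assoc, hrkz, ← mul_assoc, hdz, mul_assoc]
    have h2 : ∃ y : G, y * z = z * y ∧ (y * f * y⁻¹ = d ∨ y * (f * z) * y⁻¹ = d) := by
      refine ⟨r ^ k * d, ?_, ?_⟩
      · rw [mul_assoc, hdz, ← mul_assoc, hrkz, mul_assoc]
      · rcases hn with h | h
        · left
          rw [h, mul_one] at h1
          calc r ^ k * d * f * (r ^ k * d)⁻¹ = r ^ k * (d * f * d⁻¹) * (r ^ k)⁻¹ := by group
            _ = r ^ k * (d * f * d) * (r ^ k)⁻¹ := by rw [hdi]
            _ = r ^ k * ((r ^ k)⁻¹ * d * r ^ k) * (r ^ k)⁻¹ := by rw [h1]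
            _ = d := by group
        · right
          rw [h] at h1
          calc r ^ k * d * (f * z) * (r ^ k * d)⁻¹
              = r ^ k * (d * f * (z * d⁻¹)) * (r ^ k)⁻¹ := by group
            _ = r ^ k * (d * f * d * z) * (r ^ k)⁻¹ := by rw [hdi, ← hdz]; group
            _ = r ^ k * ((r ^ k)⁻¹ * d * r ^ k) * (r ^ k)⁻¹ := by rw [h1]
            _ = d := by group
    obtain ⟨y, hyz, hy⟩ := h2
    have hyz' : z * y⁻¹ = y⁻¹ * z := by
      calc z * y⁻¹ = y⁻¹ * (y * z) * y⁻¹ := by group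
        _ = y⁻¹ * (z * y) * y⁻¹ := by rw [hyz]
        _ = y⁻¹ * z := by group
    have h3 : ∃ g : G, g * t * g⁻¹ = d * z := by
      rcases hy with h | h
      · obtain ⟨g, hg⟩ := hfz'
        refine ⟨y * g, ?_⟩
        calc y * g * t * (y * g)⁻¹ = y * (g * t * g⁻¹) * y⁻¹ := by group
          _ = y * f * (z * y⁻¹) := by rw [hg]; group
          _ = y * f * y⁻¹ * z := by rw [hyz']; group
          _ = d * z := by rw [h]
      · obtain ⟨g, hg⟩ := hft
        refine ⟨y * g, ?_⟩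
        calc y * g * t * (y * g)⁻¹ = y * (g * t * g⁻¹) * y⁻¹ := by group
          _ = y * f * y⁻¹ := by rw [hg]
          _ = y * (f * (z * z)) * y⁻¹ := by rw [hzz, mul_one]
          _ = y * (f * z) * (z * y⁻¹) := by group
          _ = y * (f * z) * y⁻¹ * z := by rw [hyz']; group
          _ = d * z := by rw [h]
    exact H.not_both h3 hdz'

/-- **Closing theorem**: `M = G`. -/
theorem Hyp.eq_top [Finite G] (H : Hyp M t z) : M = ⊤ := by
  by_contra hne
  have hSE : IsStronglyEmbedded M := by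
    refine ⟨hne, ?_, ?_⟩
    · by_contra hodd
      exact not_odd_of_mem M t H.tM H.ht (Nat.not_even_iff_odd.1 hodd)
    · intro g hg
      by_contra hodd
      rw [Nat.not_odd_iff_even] at hodd
      obtain ⟨⟨u, hu⟩, hu2⟩ := exists_prime_orderOf_dvd_card'
        (G := ↥(M ⊓ M.map (MulAut.conj g).toMonoidHom)) 2 (even_iff_two_dvd.mp hodd)
      rw [Subgroup.orderOf_mk] at hu2
      obtain ⟨huM, w, hw, hwu⟩ := hu
      have hwu' : g * w * g⁻¹ = u := by simpa only [_root_.MulEquiv.toMonoidHom_eq_coe, _root_.MonoidHom.coe_coe, _root_.MulAut.conj_apply] using hwu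
      have hw2 : orderOf w = 2 := by rw [← orderOf_conj g w, hwu', hu2]
      apply hg
      rcases H.cls w hw hw2 with ⟨m, hm, hmw⟩ | ⟨m, hm, hmw⟩
      · exact H.mem_of_conj hw ⟨m, hmw⟩ (by rw [hwu']; exact huM)
      · have h2 : ∃ k : G, k * z * k⁻¹ = u := ⟨g * m, by rw [← hwu', ← hmw]; group⟩
        obtain ⟨n, hn, hnu⟩ := H.conj_z huM h2
        have h3 : n⁻¹ * (g * m) ∈ M := by
          apply H.cz
          have e1 : g * m * z * (g * m)⁻¹ = n * z * n⁻¹ := by
            rw [hnu, ← hwu', ← hmw]; group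
          calc n⁻¹ * (g * m) * z = n⁻¹ * (g * m * z * (g * m)⁻¹) * (g * m) := by group
            _ = n⁻¹ * (n * z * n⁻¹) * (g * m) := by rw [e1]
            _ = z * (n⁻¹ * (g * m)) := by group
        have h4 : g = n * (n⁻¹ * (g * m)) * m⁻¹ := by group
        rw [h4]
        exact mul_mem (mul_mem hn h3) (inv_mem hm)
  obtain ⟨g, hg⟩ := isConj_iff.1 (isConj_of_involutions hSE t z H.ht H.hz)
  exact H.ne g hg

end

end Cfsg.Agent.SylowLFive.Closing
end

-- part: SylowLFive/Frame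
section
/-!
# The frame of `L₅^ε(q)`, `q` odd, and the closing argument

`T i j` (`i j : Fin 5`) are the ten involutions `t_ij` of the diagonal elementary abelian
subgroup `E` of order 16, `z i` are the other five. `J` is a normal subgroup of `C(t_01)`
containing `t_23`, `t_34` (`J = SL₃^ε(q)` on the points 2, 3, 4).
Then `G = N_G(⟨J_ij⟩)`, in particular `G = ⟨J_ij⟩` for `G` simple: `Fr5.G0_eq_top`.
-/

set_option autoImplicit false

namespace Cfsg.Agent.SylowLFive.Frame

open Cfsg Cfsg.Agent.TwoFusion.StronglyEmbeddedBasic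

/-! ### vectors -/

/-- unit vectors of `F₂⁵` -/
def ev (i : Fin 5) : Fin 5 → ZMod 2 := fun j => if i = j then 1 else 0

set_option maxRecDepth 100000 in
theorem spec0 : ∀ a b c d i : Fin 5, a ≠ b → a ≠ c → a ≠ d → a ≠ i → b ≠ c → b ≠ d → b ≠ i →
    c ≠ d → c ≠ i → d ≠ i → ∀ j, (ev a + ev b + (ev c + ev d)) j =
      (ev (i+1) + ev (i+2) + (ev (i+3) + ev (i+4))) j := by
  decide +kernel

theorem spec1 : ∀ a b c d : ZMod 2, (∀ k, ![a,b,c,d,a+b+c+d] k = 0) ∨
    (∃ i j, i ≠ j ∧ ∀ k, ![a,b,c,d,a+b+c+d] k = (ev i + ev j) k) ∨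
    ∃ i, ∀ k, ![a,b,c,d,a+b+c+d] k = (ev (i+1) + ev (i+2) + (ev (i+3) + ev (i+4))) k := by
  decide +kernel

theorem spec2 : ∀ i j k : Fin 5, (ev (i+1) + ev (i+2) + (ev (i+3) + ev (i+4)) + (ev i + ev j)) k =
    (ev (j+1) + ev (j+2) + (ev (j+3) + ev (j+4))) k := by
  decide +kernel

/-- The ten involutions `T i j` of the frame, permuted as `S₅`. -/
structure Fr (G : Type*) [Group G] where
  T : Fin 5 → Fin 5 → G
  T_self : ∀ i, T i i = 1
  T_symm : ∀ i j, T i j = T j i
  T_mul : ∀ i j k, T i j * T j k = T i k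
  T_ne : T 0 1 ≠ 1
  perm : ∀ σ : Equiv.Perm (Fin 5), ∃ n : G, ∀ i j, n * T i j * n⁻¹ = T (σ i) (σ j)

namespace Fr

variable {G : Type*} [Group G] (F : Fr G)

/-- the involution `z i`, the product of two disjoint `T`'s avoiding `i` -/
def z (i : Fin 5) : G := F.T (i + 1) (i + 2) * F.T (i + 3) (i + 4)

/-- elements inducing a permutation of the frame -/
def Ind (n : G) : Prop := ∃ σ : Equiv.Perm (Fin 5), ∀ i j, n * F.T i j * n⁻¹ = F.T (σ i) (σ j)

theorem T_sq (i j : Fin 5) : F.T i j * F.T i j = 1 := by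
  conv_lhs => rw [F.T_symm i j]
  rw [← F.T_self j]
  conv_lhs => arg 2; rw [F.T_symm]
  exact F.T_mul j i j

theorem T_inv (i j : Fin 5) : (F.T i j)⁻¹ = F.T i j := inv_eq_of_mul_eq_one_right (F.T_sq i j)

theorem comm1 (i j k : Fin 5) : F.T i j * F.T j k = F.T j k * F.T i j := by
  rw [F.T_mul, F.T_symm i j, F.T_symm j k, F.T_mul, F.T_symm]

/-- the frame is commutative -/
theorem comm (i j k l : Fin 5) : F.T i j * F.T k l = F.T k l * F.T i j := by
  have h1 : F.T k l = F.T k j * F.T j l := (F.T_mul k j l).symm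
  have h2 := F.comm1 i j k
  have h3 := F.comm1 i j l
  rw [h1, F.T_symm k j]
  calc F.T i j * (F.T j k * F.T j l) = (F.T i j * F.T j k) * F.T j l := (mul_assoc _ _ _).symm
    _ = F.T j k * (F.T i j * F.T j l) := by rw [h2, mul_assoc]
    _ = F.T j k * F.T j l * F.T i j := by rw [h3, mul_assoc]

theorem exists_perm {i j : Fin 5} (h : i ≠ j) :
    ∃ σ : Equiv.Perm (Fin 5), σ 0 = i ∧ σ 1 = j := by
  refine ⟨Equiv.swap 0 i * Equiv.swap 1 (Equiv.swap 0 i j), ?_, ?_⟩
  · have h1 : Equiv.swap 0 i j ≠ 0 := by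
      intro h2
      apply h
      have := congrArg (Equiv.swap 0 i) h2
      rw [Equiv.swap_apply_self, Equiv.swap_apply_left] at this
      exact this.symm
    rw [Equiv.Perm.mul_apply, Equiv.swap_apply_of_ne_of_ne (by decide) h1.symm,
      Equiv.swap_apply_left]
  · rw [Equiv.Perm.mul_apply, Equiv.swap_apply_left, Equiv.swap_apply_self]

theorem exists_conj {i j : Fin 5} (h : i ≠ j) :
    ∃ n, F.Ind n ∧ n * F.T 0 1 * n⁻¹ = F.T i j := by
  obtain ⟨σ, h0, h1⟩ := exists_perm h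
  obtain ⟨n, hn⟩ := F.perm σ
  refine ⟨n, ⟨σ, hn⟩, ?_⟩
  rw [hn, h0, h1]

theorem T_ne_one {i j : Fin 5} (h : i ≠ j) : F.T i j ≠ 1 := by
  obtain ⟨n, _, hn⟩ := F.exists_conj h
  rw [← hn]
  intro h1
  apply F.T_ne
  have h2 : n * F.T 0 1 = n := by
    have := congrArg (· * n) h1
    simpa only [_root_.Fin.isValue, _root_.mul_eq_left, _root_.inv_mul_cancel_right, _root_.one_mul] using this
  exact mul_eq_left.1 h2

theorem orderOf_T {i j : Fin 5} (h : i ≠ j) : orderOf (F.T i j) = 2 :=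
  orderOf_eq_two_of_mul_self (F.T_sq i j) (F.T_ne_one h)

/-! ### the parametrisation of `E` by vectors -/

theorem pow_val_add {a : G} (ha : a * a = 1) (x y : ZMod 2) :
    a ^ (x + y).val = a ^ x.val * a ^ y.val := by
  have h : ∀ x : ZMod 2, x = 0 ∨ x = 1 := by decide
  rcases h x with rfl | rfl <;> rcases h y with rfl | rfl
  · simp
  · simp
  · simp
  · have h2 : (1 + 1 : ZMod 2) = 0 := by decide
    rw [h2]
    simp [ZMod.val_one, ha]

/-- the element of `E` with a given vector -/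
def el (v : Fin 5 → ZMod 2) : G :=
  F.T 0 4 ^ (v 0).val * F.T 1 4 ^ (v 1).val * F.T 2 4 ^ (v 2).val * F.T 3 4 ^ (v 3).val

theorem el_congr {v w : Fin 5 → ZMod 2} (h : ∀ i, v i = w i) : F.el v = F.el w := by
  unfold el
  rw [h 0, h 1, h 2, h 3]

theorem el_zero : F.el 0 = 1 := by simp [el]

theorem el_add (v w : Fin 5 → ZMod 2) : F.el (v + w) = F.el v * F.el w := by
  have c : ∀ i j (m n : ℕ), Commute (F.T i 4 ^ m) (F.T j 4 ^ n) := fun i j m n =>
    Commute.pow_pow (F.comm i 4 j 4) m n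
  unfold el
  simp only [Pi.add_apply]
  rw [pow_val_add (F.T_sq 0 4), pow_val_add (F.T_sq 1 4), pow_val_add (F.T_sq 2 4),
    pow_val_add (F.T_sq 3 4)]
  set a := F.T 0 4 ^ (v 0).val
  set b := F.T 1 4 ^ (v 1).val
  set c' := F.T 2 4 ^ (v 2).val
  set d := F.T 3 4 ^ (v 3).val
  set a' := F.T 0 4 ^ (w 0).val
  set b' := F.T 1 4 ^ (w 1).val
  set c'' := F.T 2 4 ^ (w 2).val
  set d' := F.T 3 4 ^ (w 3).val
  have h1 : a' * b = b * a' := c 0 1 _ _
  have h2 : a' * c' = c' * a' := c 0 2 _ _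
  have h3 : a' * d = d * a' := c 0 3 _ _
  have h4 : b' * c' = c' * b' := c 1 2 _ _
  have h5 : b' * d = d * b' := c 1 3 _ _
  have h6 : c'' * d = d * c'' := c 2 3 _ _
  calc a * a' * (b * b') * (c' * c'') * (d * d')
      = a * (a' * b) * b' * c' * (c'' * d) * d' := by group
    _ = a * b * a' * (b' * c') * d * c'' * d' := by rw [h1, h6]; group
    _ = a * b * (a' * c') * b' * d * c'' * d' := by rw [h4]; group
    _ = a * b * c' * a' * (b' * d) * c'' * d' := by rw [h2]; group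
    _ = a * b * c' * (a' * d) * b' * c'' * d' := by rw [h5]; group
    _ = a * b * c' * d * (a' * b' * c'' * d') := by rw [h3]; group

theorem el_ev (i : Fin 5) : F.el (ev i) = F.T i 4 := by
  (revert i; simp only [el, ev, F.T_self, ZMod.val_one, _root_.Fin.forall_fin_succ, Fin.isValue, ↓reduceIte, _root_.pow_one, _root_.zero_ne_one, _root_.ZMod.val_zero, _root_.pow_zero, _root_.mul_one, Fin.reduceEq, _root_.Fin.succ_ne_zero, _root_.one_mul, _root_.Fin.succ_zero_eq_one, _root_.Fin.succ_one_eq_two, Fin.reduceSucc, _root_.IsEmpty.forall_iff, _root_.and_self])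

theorem el_T (i j : Fin 5) : F.el (ev i + ev j) = F.T i j := by
  rw [el_add, el_ev, el_ev, F.T_symm j 4, F.T_mul]

theorem el_TT (i j k l : Fin 5) : F.el (ev i + ev j + (ev k + ev l)) = F.T i j * F.T k l := by
  rw [el_add, el_T, el_T]

theorem el_z (i : Fin 5) : F.el (ev (i+1) + ev (i+2) + (ev (i+3) + ev (i+4))) = F.z i :=
  F.el_TT _ _ _ _

/-- the product of two disjoint `T`'s is `z i`, `i` the fifth point -/
theorem TT_eq_z {a b c d i : Fin 5} (h1 : a ≠ b) (h2 : a ≠ c) (h3 : a ≠ d) (h4 : a ≠ i)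
    (h5 : b ≠ c) (h6 : b ≠ d) (h7 : b ≠ i) (h8 : c ≠ d) (h9 : c ≠ i) (h0 : d ≠ i) :
    F.T a b * F.T c d = F.z i := by
  rw [← el_TT, ← el_z]
  exact F.el_congr (spec0 a b c d i h1 h2 h3 h4 h5 h6 h7 h8 h9 h0)

theorem z_mul_T (i j : Fin 5) : F.z i * F.T i j = F.z j := by
  rw [← el_z, ← el_z, ← el_T, ← el_add]
  exact F.el_congr (spec2 i j)

theorem z_sq (i : Fin 5) : F.z i * F.z i = 1 := by
  have h : F.T (i + 1) (i + 2) * F.T (i + 3) (i + 4) * (F.T (i + 1) (i + 2) * F.T (i + 3) (i + 4))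
      = 1 := by
    rw [F.comm (i + 1) (i + 2) (i + 3) (i + 4)]
    calc F.T (i + 3) (i + 4) * F.T (i + 1) (i + 2) * (F.T (i + 3) (i + 4) * F.T (i + 1) (i + 2))
        = F.T (i + 3) (i + 4) * (F.T (i + 1) (i + 2) * F.T (i + 3) (i + 4)) * F.T (i + 1) (i + 2)
          := by group
      _ = F.T (i + 3) (i + 4) * (F.T (i + 3) (i + 4) * F.T (i + 1) (i + 2)) * F.T (i + 1) (i + 2)
          := by rw [F.comm (i + 1) (i + 2) (i + 3) (i + 4)]
      _ = (F.T (i + 3) (i + 4) * F.T (i + 3) (i + 4)) * (F.T (i + 1) (i + 2) *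
            F.T (i + 1) (i + 2)) := by group
      _ = 1 := by rw [F.T_sq, F.T_sq, one_mul]
  exact h

theorem z_mul_z (i j : Fin 5) : F.z i * F.z j = F.T i j := by
  rw [← F.z_mul_T i j, ← mul_assoc, F.z_sq, one_mul]

theorem z_comm_T (i j k : Fin 5) : F.z i * F.T j k = F.T j k * F.z i := by
  unfold z
  rw [mul_assoc, F.comm (i + 3) (i + 4) j k, ← mul_assoc, F.comm (i + 1) (i + 2) j k, mul_assoc]

theorem z_conj {n : G} {σ : Equiv.Perm (Fin 5)}
    (h : ∀ i j, n * F.T i j * n⁻¹ = F.T (σ i) (σ j)) (i : Fin 5) :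
    n * F.z i * n⁻¹ = F.z (σ i) := by
  have e : n * F.z i * n⁻¹ = F.T (σ (i + 1)) (σ (i + 2)) * F.T (σ (i + 3)) (σ (i + 4)) := by
    rw [← h, ← h]
    unfold z
    group
  rw [e]
  have inj : ∀ {a b : Fin 5}, a ≠ b → σ a ≠ σ b := fun h => σ.injective.ne h
  have hd : ∀ i : Fin 5, i + 1 ≠ i + 2 ∧ i + 1 ≠ i + 3 ∧ i + 1 ≠ i + 4 ∧ i + 1 ≠ i ∧
      i + 2 ≠ i + 3 ∧ i + 2 ≠ i + 4 ∧ i + 2 ≠ i ∧ i + 3 ≠ i + 4 ∧ i + 3 ≠ i ∧ i + 4 ≠ i := by
    decide
  obtain ⟨h1, h2, h3, h4, h5, h6, h7, h8, h9, h0⟩ := hd i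
  exact F.TT_eq_z (inj h1) (inj h2) (inj h3) (inj h4) (inj h5) (inj h6) (inj h7) (inj h8)
    (inj h9) (inj h0)

/-- all `z i` are conjugate by elements inducing permutations -/
theorem z_exists_conj (i j : Fin 5) : ∃ n, F.Ind n ∧ n * F.z i * n⁻¹ = F.z j := by
  obtain ⟨n, hn⟩ := F.perm (Equiv.swap i j)
  refine ⟨n, ⟨_, hn⟩, ?_⟩
  rw [F.z_conj hn, Equiv.swap_apply_left]

theorem z_four : F.z 4 = F.T 0 1 * F.T 2 3 := rfl

/-- the elements of `E` -/
theorem el_cases (v : Fin 5 → ZMod 2) :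
    F.el v = 1 ∨ (∃ i j, i ≠ j ∧ F.el v = F.T i j) ∨ ∃ i, F.el v = F.z i := by
  have h : F.el v = F.el ![v 0, v 1, v 2, v 3, v 0 + v 1 + v 2 + v 3] := rfl
  rw [h]
  rcases spec1 (v 0) (v 1) (v 2) (v 3) with h | ⟨i, j, hij, h⟩ | ⟨i, h⟩
  · left
    rw [F.el_congr h]
    exact F.el_zero
  · right; left
    exact ⟨i, j, hij, by rw [F.el_congr h, el_T]⟩
  · right; right
    exact ⟨i, by rw [F.el_congr h, el_z]⟩

/-- the elements of `E` -/
theorem mem_closure {x : G} (hx : x ∈ Subgroup.closure {y | ∃ i j, y = F.T i j}) :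
    ∃ v, F.el v = x := by
  induction hx using Subgroup.closure_induction with
  | mem x h => obtain ⟨i, j, rfl⟩ := h; exact ⟨_, F.el_T i j⟩
  | one => exact ⟨0, F.el_zero⟩
  | mul a b _ _ ha hb =>
    obtain ⟨v, rfl⟩ := ha
    obtain ⟨w, rfl⟩ := hb
    exact ⟨v + w, F.el_add v w⟩
  | inv a _ ha =>
    obtain ⟨v, rfl⟩ := ha
    refine ⟨v, ?_⟩
    rw [eq_inv_iff_mul_eq_one, ← el_add]
    have : v + v = 0 := by
      funext i
      exact CharTwo.add_self_eq_zero (v i)
    rw [this, el_zero]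

theorem closure_cases {x : G} (hx : x ∈ Subgroup.closure {y | ∃ i j, y = F.T i j}) :
    x = 1 ∨ (∃ i j, i ≠ j ∧ x = F.T i j) ∨ ∃ i, x = F.z i := by
  obtain ⟨v, rfl⟩ := F.mem_closure hx
  exact F.el_cases v

/-! ### transport of a subgroup along the frame -/

/-- the conjugates of `H` by the elements moving `t_01` to `t` -/
def tr (H : Subgroup G) (t : G) : Subgroup G :=
  Subgroup.closure {x | ∃ g, g * F.T 0 1 * g⁻¹ = t ∧ ∃ h ∈ H, g * h * g⁻¹ = x}

theorem conj_mem_tr {H : Subgroup G} {t x : G} (n : G) (hx : x ∈ F.tr H t) :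
    n * x * n⁻¹ ∈ F.tr H (n * t * n⁻¹) := by
  unfold tr at hx
  induction hx using Subgroup.closure_induction with
  | mem x h =>
    obtain ⟨g, hg, y, hy, rfl⟩ := h
    exact Subgroup.subset_closure ⟨n * g, by rw [← hg]; group, y, hy, by group⟩
  | one => simp
  | mul a b _ _ ha hb =>
    have : n * (a * b) * n⁻¹ = (n * a * n⁻¹) * (n * b * n⁻¹) := by group
    rw [this]
    exact mul_mem ha hb
  | inv a _ ha =>
    have : n * a⁻¹ * n⁻¹ = (n * a * n⁻¹)⁻¹ := by group
    rw [this]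
    exact inv_mem ha

theorem conj_mem_tr_iff {H : Subgroup G} {t x : G} (n : G) :
    n * x * n⁻¹ ∈ F.tr H (n * t * n⁻¹) ↔ x ∈ F.tr H t := by
  refine ⟨fun h => ?_, F.conj_mem_tr n⟩
  have := F.conj_mem_tr n⁻¹ h
  have e1 : n⁻¹ * (n * x * n⁻¹) * n⁻¹⁻¹ = x := by group
  have e2 : n⁻¹ * (n * t * n⁻¹) * n⁻¹⁻¹ = t := by group
  rwa [e1, e2] at this

/-- an element commuting with `t` normalises `tr H t` -/
theorem mem_tr_of_comm {H : Subgroup G} {t x n : G} (hn : n * t = t * n) (hx : x ∈ F.tr H t) :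
    n * x * n⁻¹ ∈ F.tr H t := by
  have := F.conj_mem_tr n hx
  rwa [hn, mul_inv_cancel_right] at this

/-- `H` is normalised by `C(t_01)` -/
def Nml (H : Subgroup G) : Prop :=
  ∀ c, c * F.T 0 1 = F.T 0 1 * c → ∀ h ∈ H, c * h * c⁻¹ ∈ H

theorem mem_tr_iff {H : Subgroup G} (hH : F.Nml H) {g t x : G} (hg : g * F.T 0 1 * g⁻¹ = t) :
    x ∈ F.tr H t ↔ g⁻¹ * x * g ∈ H := by
  constructor
  · intro hx
    unfold tr at hx
    induction hx using Subgroup.closure_induction with
    | mem x h =>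
      obtain ⟨k, hk, y, hy, rfl⟩ := h
      have h1 : g⁻¹ * k * F.T 0 1 = F.T 0 1 * (g⁻¹ * k) := by
        calc g⁻¹ * k * F.T 0 1 = g⁻¹ * (k * F.T 0 1 * k⁻¹) * k := by group
          _ = g⁻¹ * (g * F.T 0 1 * g⁻¹) * k := by rw [hk, hg]
          _ = _ := by group
      have := hH _ h1 y hy
      have e : g⁻¹ * k * y * (g⁻¹ * k)⁻¹ = g⁻¹ * (k * y * k⁻¹) * g := by group
      rwa [e] at this
    | one => simp
    | mul a b _ _ ha hb =>
      have : g⁻¹ * (a * b) * g = (g⁻¹ * a * g) * (g⁻¹ * b * g) := by group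
      rw [this]
      exact mul_mem ha hb
    | inv a _ ha =>
      have : g⁻¹ * a⁻¹ * g = (g⁻¹ * a * g)⁻¹ := by group
      rw [this]
      exact inv_mem ha
  · intro hx
    exact Subgroup.subset_closure ⟨g, hg, _, hx, by group⟩

theorem mem_tr_self {H : Subgroup G} (hH : F.Nml H) {x : G} :
    x ∈ F.tr H (F.T 0 1) ↔ x ∈ H := by
  have := F.mem_tr_iff hH (g := 1) (t := F.T 0 1) (x := x) (by simp)
  simpa using this

theorem mem_tr_of_conj {H : Subgroup G} {g t x : G} (hg : g * F.T 0 1 * g⁻¹ = t) (hx : x ∈ H) :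
    g * x * g⁻¹ ∈ F.tr H t := Subgroup.subset_closure ⟨g, hg, _, hx, rfl⟩

end Fr

/-- Frame with the closing property: a subgroup containing `C(t_01)` and the elements inducing permutations
of the frame is `G` (`FrC.eq_top` in `TypeLFive.CoreClose` for Sylow 2-subgroups `W ≀ 2`; `Cit.Two.frame_close`
in the classical involution theorem). -/
structure FrX (G : Type*) [Group G] extends Fr G where
  ne : ∀ g, g * T 0 1 * g⁻¹ ≠ T 0 1 * T 2 3
  close : ∀ M : Subgroup G, (∀ c, c * T 0 1 = T 0 1 * c → c ∈ M) → (∀ n, toFr.Ind n → n ∈ M) → M = ⊤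

/-- Frame with a normal subgroup `J` of `C(t_01)` (in `L₅^ε(q)`: `SL₃^ε(q)` on the points
`2, 3, 4`) and the closing property. -/
structure Fr5 (G : Type*) [Group G] extends FrX G where
  /-- the normal subgroup of `C(t_01)` -/
  J : Subgroup G
  J_comm : ∀ j ∈ J, j * T 0 1 = T 0 1 * j
  J_nml : ∀ c, c * T 0 1 = T 0 1 * c → ∀ j ∈ J, c * j * c⁻¹ ∈ J
  T23 : T 2 3 ∈ J
  T34 : T 3 4 ∈ J
  decomp : ∀ c, c * T 0 1 = T 0 1 * c → ∃ j ∈ J, ∃ x, c = j * x ∧
    x * T 2 3 = T 2 3 * x ∧ x * T 3 4 = T 3 4 * x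
  /-- `J_04` (on the points 1, 2, 3) is in `⟨J_01, J_23, J_24, J_34⟩` -/
  cov : ∀ x ∈ toFr.tr J (T 0 4), x ∈ toFr.tr J (T 0 1) ⊔ toFr.tr J (T 2 3) ⊔ toFr.tr J (T 2 4) ⊔
    toFr.tr J (T 3 4)

namespace Fr5

variable {G : Type*} [Group G] (F : Fr5 G)

/-- `G₀ = ⟨J_01, J_23, J_24, J_34⟩` -/
def G0 : Subgroup G := F.toFr.tr F.J (F.T 0 1) ⊔ F.toFr.tr F.J (F.T 2 3) ⊔
  F.toFr.tr F.J (F.T 2 4) ⊔ F.toFr.tr F.J (F.T 3 4)

/-- `M = N_G(G₀)` -/
def M : Subgroup G := Subgroup.normalizer (F.G0 : Set G)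

theorem J_le_G0 {x : G} (hx : x ∈ F.J) : x ∈ F.G0 := by
  have h := (F.toFr.mem_tr_self F.J_nml).2 hx
  exact Subgroup.mem_sup_left (Subgroup.mem_sup_left (Subgroup.mem_sup_left h))

theorem tr01_le : F.toFr.tr F.J (F.T 0 1) ≤ F.G0 :=
  le_trans le_sup_left (le_trans le_sup_left le_sup_left)

theorem tr23_le : F.toFr.tr F.J (F.T 2 3) ≤ F.G0 :=
  le_trans le_sup_right (le_trans le_sup_left le_sup_left)

theorem tr24_le : F.toFr.tr F.J (F.T 2 4) ≤ F.G0 :=
  le_trans le_sup_right le_sup_left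

theorem tr34_le : F.toFr.tr F.J (F.T 3 4) ≤ F.G0 := le_sup_right

/-- criterion: conjugation by `n` maps the four generating subgroups into `G₀` -/
theorem conj_G0 {n : G}
    (h01 : F.toFr.tr F.J (n * F.T 0 1 * n⁻¹) ≤ F.G0)
    (h23 : F.toFr.tr F.J (n * F.T 2 3 * n⁻¹) ≤ F.G0)
    (h24 : F.toFr.tr F.J (n * F.T 2 4 * n⁻¹) ≤ F.G0)
    (h34 : F.toFr.tr F.J (n * F.T 3 4 * n⁻¹) ≤ F.G0) {x : G} (hx : x ∈ F.G0) :
    n * x * n⁻¹ ∈ F.G0 := by
  have key : F.G0 ≤ F.G0.comap (MulAut.conj n).toMonoidHom := by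
    conv_lhs => unfold G0
    refine sup_le (sup_le (sup_le ?_ ?_) ?_) ?_
    · exact fun y hy => h01 (F.toFr.conj_mem_tr n hy)
    · exact fun y hy => h23 (F.toFr.conj_mem_tr n hy)
    · exact fun y hy => h24 (F.toFr.conj_mem_tr n hy)
    · exact fun y hy => h34 (F.toFr.conj_mem_tr n hy)
  exact key hx

theorem mem_M_of {n : G} (h1 : ∀ x ∈ F.G0, n * x * n⁻¹ ∈ F.G0)
    (h2 : ∀ x ∈ F.G0, n⁻¹ * x * n ∈ F.G0) : n ∈ F.M := by
  unfold M
  rw [Subgroup.mem_normalizer_iff]
  intro x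
  refine ⟨h1 x, fun h => ?_⟩
  have := h2 _ h
  have e : n⁻¹ * (n * x * n⁻¹) * n = x := by group
  rwa [e] at this

theorem G0_le_M : F.G0 ≤ F.M := Subgroup.le_normalizer

/-- an element commuting with `t_01`, `t_23`, `t_34` is in `M` -/
theorem comm_mem_M {x : G} (h1 : x * F.T 0 1 = F.T 0 1 * x) (h2 : x * F.T 2 3 = F.T 2 3 * x)
    (h3 : x * F.T 3 4 = F.T 3 4 * x) : x ∈ F.M := by
  have h4 : x * F.T 2 4 = F.T 2 4 * x := by
    rw [← F.T_mul 2 3 4, ← mul_assoc, h2, mul_assoc, h3, mul_assoc]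
  have aux : ∀ {y : G}, y * F.T 0 1 = F.T 0 1 * y → y * F.T 2 3 = F.T 2 3 * y →
      y * F.T 3 4 = F.T 3 4 * y → y * F.T 2 4 = F.T 2 4 * y → ∀ w ∈ F.G0, y * w * y⁻¹ ∈ F.G0 := by
    intro y h1 h2 h3 h4 w hw
    apply F.conj_G0 _ _ _ _ hw
    · rw [h1, mul_inv_cancel_right]; exact F.tr01_le
    · rw [h2, mul_inv_cancel_right]; exact F.tr23_le
    · rw [h4, mul_inv_cancel_right]; exact F.tr24_le
    · rw [h3, mul_inv_cancel_right]; exact F.tr34_le
  have inv : ∀ {a b : G}, a * b = b * a → a⁻¹ * b = b * a⁻¹ := fun {a b} h => by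
    calc a⁻¹ * b = a⁻¹ * (b * a) * a⁻¹ := by group
      _ = a⁻¹ * (a * b) * a⁻¹ := by rw [h]
      _ = b * a⁻¹ := by group
  refine F.mem_M_of (aux h1 h2 h3 h4) ?_
  intro w hw
  have := aux (inv h1) (inv h2) (inv h3) (inv h4) w hw
  rwa [inv_inv] at this

/-- `C(t_01) ≤ M` -/
theorem C_le_M {c : G} (hc : c * F.T 0 1 = F.T 0 1 * c) : c ∈ F.M := by
  obtain ⟨j, hj, x, rfl, h1, h2⟩ := F.decomp c hc
  refine mul_mem (F.G0_le_M (F.J_le_G0 hj)) (F.comm_mem_M ?_ h1 h2)
  have hj' := F.J_comm j hj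
  have : j * (x * F.T 0 1) = j * (F.T 0 1 * x) := by
    rw [← mul_assoc, hc, ← mul_assoc, ← mul_assoc, hj']
  exact mul_left_cancel this

theorem inv_ind {n : G} {σ : Equiv.Perm (Fin 5)}
    (h : ∀ i j, n * F.T i j * n⁻¹ = F.T (σ i) (σ j)) (i j : Fin 5) :
    n⁻¹ * F.T i j * n⁻¹⁻¹ = F.T (σ.symm i) (σ.symm j) := by
  have := h (σ.symm i) (σ.symm j)
  rw [Equiv.apply_symm_apply, Equiv.apply_symm_apply] at this
  rw [← this]
  group

/-- the swap of `0, i` and of `4, j` (`i ≤ 1 < j`) maps the four duads to the four duads -/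
theorem duads (i j : Fin 5) (hi : i = 0 ∨ i = 1) (hj : j = 2 ∨ j = 3 ∨ j = 4) :
    F.toFr.tr F.J (F.T i j) ≤ F.G0 := by
  obtain ⟨n, hn⟩ := F.perm (Equiv.swap 0 i * Equiv.swap 4 j)
  have hs : ∀ a b, F.toFr.tr F.J (F.T a b) ≤ F.G0 → F.toFr.tr F.J (F.T b a) ≤ F.G0 := by
    intro a b h; rwa [F.T_symm b a]
  have h10 := hs 0 1 F.tr01_le
  have h32 := hs 2 3 F.tr23_le
  have h42 := hs 2 4 F.tr24_le
  have h43 := hs 3 4 F.tr34_le
  intro x hx
  have e : n * F.T 0 4 * n⁻¹ = F.T i j := by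
    rw [hn]
    rcases hi with rfl | rfl <;> rcases hj with rfl | rfl | rfl <;> rfl
  rw [← e] at hx
  have h1 : n⁻¹ * x * n ∈ F.toFr.tr F.J (F.T 0 4) := by
    rw [← F.toFr.conj_mem_tr_iff n]
    have : n * (n⁻¹ * x * n) * n⁻¹ = x := by group
    rwa [this]
  have h2 := F.cov _ h1
  have h3 : n * (n⁻¹ * x * n) * n⁻¹ ∈ F.G0 := by
    apply F.conj_G0 _ _ _ _ h2
    · rw [hn]
      rcases hi with rfl | rfl <;> rcases hj with rfl | rfl | rfl <;>
      first
        | exact F.tr01_le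
        | exact h10
    · rw [hn]
      rcases hi with rfl | rfl <;> rcases hj with rfl | rfl | rfl <;>
      first
        | exact F.tr23_le
        | exact h32
        | exact F.tr24_le
        | exact h42
        | exact F.tr34_le
        | exact h43
    · rw [hn]
      rcases hi with rfl | rfl <;> rcases hj with rfl | rfl | rfl <;>
      first
        | exact F.tr23_le
        | exact h32
        | exact F.tr24_le
        | exact h42
    · rw [hn]
      rcases hi with rfl | rfl <;> rcases hj with rfl | rfl | rfl <;>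
      first
        | exact F.tr23_le
        | exact h32
        | exact F.tr24_le
        | exact h42
        | exact F.tr34_le
        | exact h43
  have e3 : n * (n⁻¹ * x * n) * n⁻¹ = x := by group
  rwa [e3] at h3

/-- all ten `J_ij` are in `G₀` -/
theorem tr_le (i j : Fin 5) (h : i ≠ j) : F.toFr.tr F.J (F.T i j) ≤ F.G0 := by
  have hs : ∀ a b, F.toFr.tr F.J (F.T a b) ≤ F.G0 → F.toFr.tr F.J (F.T b a) ≤ F.G0 := by
    intro a b h; rwa [F.T_symm b a]
  have key : ∀ i j : Fin 5, i ≠ j → (i = 0 ∧ j = 1) ∨ (i = 1 ∧ j = 0) ∨ (i = 2 ∧ j = 3) ∨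
      (i = 3 ∧ j = 2) ∨ (i = 2 ∧ j = 4) ∨ (i = 4 ∧ j = 2) ∨ (i = 3 ∧ j = 4) ∨
      (i = 4 ∧ j = 3) ∨ ((i = 0 ∨ i = 1) ∧ (j = 2 ∨ j = 3 ∨ j = 4)) ∨
      ((j = 0 ∨ j = 1) ∧ (i = 2 ∨ i = 3 ∨ i = 4)) := by decide
  rcases key i j h with ⟨rfl, rfl⟩ | ⟨rfl, rfl⟩ | ⟨rfl, rfl⟩ | ⟨rfl, rfl⟩ | ⟨rfl, rfl⟩ |
    ⟨rfl, rfl⟩ | ⟨rfl, rfl⟩ | ⟨rfl, rfl⟩ | ⟨h1, h2⟩ | ⟨h1, h2⟩
  · exact F.tr01_le
  · exact hs _ _ F.tr01_le
  · exact F.tr23_le
  · exact hs _ _ F.tr23_le
  · exact F.tr24_le
  · exact hs _ _ F.tr24_le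
  · exact F.tr34_le
  · exact hs _ _ F.tr34_le
  · exact F.duads i j h1 h2
  · exact hs _ _ (F.duads j i h1 h2)

/-- the elements inducing permutations are in `M` -/
theorem Ind_mem_M {n : G} (hn : F.toFr.Ind n) : n ∈ F.M := by
  obtain ⟨σ, hσ⟩ := hn
  refine F.mem_M_of (fun x hx => ?_) (fun x hx => ?_)
  · refine F.conj_G0 ?_ ?_ ?_ ?_ hx <;> rw [hσ]
    · exact F.tr_le _ _ (σ.injective.ne (by decide))
    · exact F.tr_le _ _ (σ.injective.ne (by decide))
    · exact F.tr_le _ _ (σ.injective.ne (by decide))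
    · exact F.tr_le _ _ (σ.injective.ne (by decide))
  · have := F.conj_G0 (n := n⁻¹) ?_ ?_ ?_ ?_ hx
    · rwa [inv_inv] at this
    all_goals rw [F.inv_ind hσ]
    · exact F.tr_le _ _ (σ.symm.injective.ne (by decide))
    · exact F.tr_le _ _ (σ.symm.injective.ne (by decide))
    · exact F.tr_le _ _ (σ.symm.injective.ne (by decide))
    · exact F.tr_le _ _ (σ.symm.injective.ne (by decide))

theorem T_mem_G0 (i j : Fin 5) : F.T i j ∈ F.G0 := by
  by_cases h : i = j
  · rw [h, F.T_self]; exact one_mem _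
  · obtain ⟨n, hn, h1⟩ : ∃ n, F.toFr.Ind n ∧ n * F.T 2 3 * n⁻¹ = F.T i j := by
      obtain ⟨n, hn, h1⟩ := F.toFr.exists_conj h
      obtain ⟨m, hm, h2⟩ := F.toFr.exists_conj (show (2 : Fin 5) ≠ 3 by decide)
      refine ⟨n * m⁻¹, ?_, ?_⟩
      · obtain ⟨σ, hσ⟩ := hn
        obtain ⟨τ, hτ⟩ := hm
        refine ⟨σ * τ.symm, fun a b => ?_⟩
        have := F.inv_ind hτ a b
        calc n * m⁻¹ * F.T a b * (n * m⁻¹)⁻¹ = n * (m⁻¹ * F.T a b * m⁻¹⁻¹) * n⁻¹ := by group
          _ = n * F.T (τ.symm a) (τ.symm b) * n⁻¹ := by rw [this]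
          _ = _ := by rw [hσ]; rfl
      · rw [← h2, ← h1]; group
    have h2 : F.T 2 3 ∈ F.G0 := F.J_le_G0 F.T23
    have h3 := (Subgroup.mem_normalizer_iff.1 (F.Ind_mem_M hn) _).1 h2
    rwa [h1] at h3

theorem z_ne_one (i : Fin 5) : F.z i ≠ 1 := by
  intro h
  obtain ⟨n, _, hn⟩ := F.z_exists_conj i 4
  rw [h, mul_one, mul_inv_cancel] at hn
  -- `z 4 = 1` means `t_01 = t_23`
  have h1 : F.T 0 1 = F.T 2 3 := by
    have h2 : F.T 0 1 * F.T 2 3 = 1 := by rw [← F.z_four, hn]
    rw [← F.T_inv 2 3]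
    exact eq_inv_of_mul_eq_one_left h2
  obtain ⟨n, hn2, hn1⟩ := F.toFr.exists_conj (show (1 : Fin 5) ≠ 3 by decide)
  -- then all `T i j = T k l` for disjoint duads, by symmetry `T 0 1 = T 2 3 = T 0 4`
  obtain ⟨m, hm⟩ := F.perm (Equiv.swap 1 4)
  have h3 : F.T 0 4 = F.T 2 3 := by
    have a1 := hm 0 1
    have a2 := hm 2 3
    have e1 : (Equiv.swap 1 4 : Equiv.Perm (Fin 5)) 0 = 0 := by decide
    have e2 : (Equiv.swap 1 4 : Equiv.Perm (Fin 5)) 1 = 4 := by decide
    have e3 : (Equiv.swap 1 4 : Equiv.Perm (Fin 5)) 2 = 2 := by decide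
    have e4 : (Equiv.swap 1 4 : Equiv.Perm (Fin 5)) 3 = 3 := by decide
    rw [e1, e2] at a1
    rw [e3, e4] at a2
    rw [← a1, ← a2, h1]
  have h4 : F.T 1 4 = 1 := by
    rw [← F.T_mul 1 0 4, F.T_symm 1 0, h1, h3, F.T_sq]
  exact F.toFr.T_ne_one (by decide) h4

theorem orderOf_z (i : Fin 5) : orderOf (F.z i) = 2 :=
  orderOf_eq_two_of_mul_self (F.z_sq i) (F.z_ne_one i)

theorem conj_T {i j : Fin 5} (h : i ≠ j) : ∃ m ∈ F.M, m * F.T 0 1 * m⁻¹ = F.T i j := by
  obtain ⟨n, hn, h1⟩ := F.toFr.exists_conj h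
  exact ⟨n, F.Ind_mem_M hn, h1⟩

theorem conj_z (i : Fin 5) : ∃ m ∈ F.M, m * F.z 4 * m⁻¹ = F.z i := by
  obtain ⟨n, hn, h1⟩ := F.z_exists_conj 4 i
  exact ⟨n, F.Ind_mem_M hn, h1⟩

/-- no element is conjugate to `t_ij` and to `z_4` -/
theorem not_both {u : G} (h1 : ∃ g : G, g * F.T 0 1 * g⁻¹ = u)
    (h2 : ∃ g : G, g * F.z 4 * g⁻¹ = u) : False := by
  obtain ⟨g, hg⟩ := h1
  obtain ⟨k, hk⟩ := h2
  apply F.ne (k⁻¹ * g)
  rw [← F.z_four]
  calc k⁻¹ * g * F.T 0 1 * (k⁻¹ * g)⁻¹ = k⁻¹ * (g * F.T 0 1 * g⁻¹) * k := by group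
    _ = k⁻¹ * (k * F.z 4 * k⁻¹) * k := by rw [hg, hk]
    _ = F.z 4 := by group

/-- **`N_G(G₀) = G`** -/
theorem M_eq_top : F.M = ⊤ := F.close F.M (fun _ hc => F.C_le_M hc) (fun _ hn => F.Ind_mem_M hn)

theorem G0_normal : F.G0.Normal := Subgroup.normalizer_eq_top_iff.1 F.M_eq_top

/-- **`G = ⟨J_01, J_23, J_24, J_34⟩`** for `G` simple. -/
theorem G0_eq_top [IsSimpleGroup G] : F.G0 = ⊤ := by
  have := F.G0_normal
  rcases Subgroup.Normal.eq_bot_or_eq_top (H := F.G0) this with h | h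
  · exfalso
    have h1 := F.T_mem_G0 0 1
    rw [h, Subgroup.mem_bot] at h1
    exact F.T_ne h1
  · exact h

end Fr5

end Cfsg.Agent.SylowLFive.Frame
end

private theorem dce_9072d1e4eed1 : _root_.True := by
  try have : _root_.True := by simp only [_root_.Cfsg.Agent.SylowLFive.Frame.ev.eq_1]
  try have : _root_.True := by simp only [_root_.Cfsg.Agent.SylowLFive.Frame.Fr.el.eq_1]
  exact _root_.True.intro
end

-- part: SylowLFive/ThreeAux
section
prune_inst 0x30200100140000000018000040001c42f2000000004b00001100040004871c0120000621f2a00a00110280640038004002000009020800000000820041180080040052020240a100210000408005180c00000000000000000000000000041000000000000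
set_option linter.all false
open scoped Cfsg.Agent.FastGrp

/-!
# Automorphisms of the quaternion group of order 8

Auxiliary facts for the case `q = 3` of type `L₅`.
-/

set_option autoImplicit false

namespace Cfsg.Agent.SylowLFive.ThreeAux

open Subgroup

abbrev Q8 := QuaternionGroup 2

/-- the map with given values on the generators -/
def ev (p q : Q8) : Q8 → Q8
  | .a i => p ^ i.val
  | .xa i => q * p ^ i.val

theorem apply_eq (γ : MulAut Q8) (x : Q8) : γ x = ev (γ (.a 1)) (γ (.xa 0)) x := by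
  rcases x with i | i
  · show γ (.a i) = γ (.a 1) ^ i.val
    rw [← map_pow]
    congr 1
    have h := QuaternionGroup.a_one_pow (n := 2) i.val
    rw [h, ZMod.natCast_zmod_val]
  · show γ (.xa i) = γ (.xa 0) * γ (.a 1) ^ i.val
    rw [← map_pow, ← map_mul]
    congr 1
    have h := QuaternionGroup.a_one_pow (n := 2) i.val
    rw [h, ZMod.natCast_zmod_val, QuaternionGroup.xa_mul_a, zero_add]

theorem nc (γ : MulAut Q8) : γ (.a 1) * γ (.xa 0) ≠ γ (.xa 0) * γ (.a 1) := by
  rw [← map_mul, ← map_mul]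
  intro h
  have := γ.injective h
  revert this
  decide

theorem eq_one_of {γ : MulAut Q8} (h1 : γ (.a 1) = .a 1) (h2 : γ (.xa 0) = .xa 0) : γ = 1 := by
  ext x
  rw [apply_eq γ x, h1, h2, MulAut.one_apply]
  rcases x with i | i
  · show (QuaternionGroup.a 1 : Q8) ^ i.val = .a i
    rw [QuaternionGroup.a_one_pow (n := 2) i.val, ZMod.natCast_zmod_val]
  · show (QuaternionGroup.xa 0 : Q8) * (QuaternionGroup.a 1 : Q8) ^ i.val = .xa i
    rw [QuaternionGroup.a_one_pow (n := 2) i.val, ZMod.natCast_zmod_val, QuaternionGroup.xa_mul_a,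
      zero_add]

set_option maxRecDepth 100000 in
theorem pow34 : ∀ p q : Q8, p * q ≠ q * p →
    (ev p q (ev p q p) = .a 1 ∧ ev p q (ev p q q) = .xa 0) ∨
    (ev p q (ev p q (ev p q p)) = .a 1 ∧ ev p q (ev p q (ev p q q)) = .xa 0) := by
  decide +kernel

set_option maxRecDepth 100000 in
theorem comm : ∀ p q : Q8, p * q ≠ q * p → (ev p q (ev p q p) = .a 1 ∧ ev p q (ev p q q) = .xa 0) →
    ∀ r s : Q8, r * s ≠ s * r → ev r s r = .a 1 → ev r s s = .xa 0 → ev p q r = ev r s p →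
    ev p q s = ev r s q → (p = .a 1 ∧ q = .xa 0) ∨ (r = .a 1 ∧ s = .xa 0) := by
  decide +kernel

theorem cube {γ : MulAut Q8} (h : Odd (orderOf γ)) : γ ^ 3 = 1 := by
  have e2 : ∀ x, γ (γ x) = ev (γ (.a 1)) (γ (.xa 0)) (ev (γ (.a 1)) (γ (.xa 0)) x) := fun x => by
    rw [apply_eq γ (γ x), apply_eq γ x]
  rcases pow34 _ _ (nc γ) with ⟨h1, h2⟩ | ⟨h1, h2⟩
  · apply eq_one_of
    · rw [← apply_eq γ, ← apply_eq γ] at h1
      exact h1
    · rw [← apply_eq γ, ← apply_eq γ] at h2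
      exact h2
  · have h4 : γ ^ 4 = 1 := by
      apply eq_one_of
      · rw [← apply_eq γ, ← apply_eq γ, ← apply_eq γ] at h1
        exact h1
      · rw [← apply_eq γ, ← apply_eq γ, ← apply_eq γ] at h2
        exact h2
    have h5 : orderOf γ ∣ 4 := orderOf_dvd_of_pow_eq_one h4
    have h6 : orderOf γ = 1 := by
      have h7 : Nat.Coprime (orderOf γ) 4 := by
        rw [show (4 : ℕ) = 2 ^ 2 by norm_num]
        exact Nat.Coprime.pow_right 2 (Nat.coprime_two_right.2 h)
      have := Nat.dvd_gcd (dvd_refl (orderOf γ)) h5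
      rw [h7] at this
      exact Nat.dvd_one.1 this
    rw [orderOf_eq_one_iff] at h6
    rw [h6, one_pow]

theorem aut_comm {γ δ : MulAut Q8} (h : Odd (orderOf γ)) (hd : δ * δ = 1) (hc : γ * δ = δ * γ) :
    γ = 1 ∨ δ = 1 := by
  have h3 := cube h
  have app : ∀ (μ ν : MulAut Q8) x, (μ * ν) x = μ (ν x) := fun _ _ _ => rfl
  have h31 : ∀ x, γ (γ (γ x)) = x := fun x => by
    have := DFunLike.congr_fun h3 x
    exact this
  have h21 : ∀ x, δ (δ x) = x := fun x => by
    have := DFunLike.congr_fun hd x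
    exact this
  have hc1 : ∀ x, γ (δ x) = δ (γ x) := fun x => by
    have := DFunLike.congr_fun hc x
    exact this
  rcases comm _ _ (nc γ) ⟨by rw [← apply_eq, ← apply_eq]; exact h31 _,
    by rw [← apply_eq, ← apply_eq]; exact h31 _⟩ _ _ (nc δ) (by rw [← apply_eq]; exact h21 _)
    (by rw [← apply_eq]; exact h21 _) (by rw [← apply_eq, ← apply_eq]; exact hc1 _)
    (by rw [← apply_eq, ← apply_eq]; exact hc1 _) with ⟨h1, h2⟩ | ⟨h1, h2⟩
  · exact Or.inl (eq_one_of h1 h2)
  · exact Or.inr (eq_one_of h1 h2)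

set_option maxRecDepth 100000 in
theorem card_pairs : Fintype.card {x : Q8 × Q8 // x.1 * x.2 ≠ x.2 * x.1} = 24 := by decide +kernel

theorem card_aut : Nat.card (MulAut Q8) ≤ 24 := by
  rw [← card_pairs, ← Nat.card_eq_fintype_card]
  apply Nat.card_le_card_of_injective (fun γ : MulAut Q8 =>
    (⟨(γ (.a 1), γ (.xa 0)), nc γ⟩ : {x : Q8 × Q8 // x.1 * x.2 ≠ x.2 * x.1}))
  intro γ δ h
  have h' := congrArg Subtype.val h
  have h1 : γ (.a 1) = δ (.a 1) := congrArg Prod.fst h'
  have h2 : γ (.xa 0) = δ (.xa 0) := congrArg Prod.snd h'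
  ext x
  rw [apply_eq γ x, apply_eq δ x, h1, h2]

variable {X : Type*} [Group X]

/-- the action on a quaternion subgroup -/
noncomputable def act (P : Subgroup X) (e : P ≃* Q8) : normalizer (P : Set X) →* MulAut Q8 :=
  (MulAut.congr e).toMonoidHom.comp P.normalizerMonoidHom

theorem act_eq_one_iff {P : Subgroup X} {e : P ≃* Q8} {x : normalizer (P : Set X)} :
    act P e x = 1 ↔ ∀ p ∈ P, (x : X) * p = p * x := by
  have h1 : act P e x = 1 ↔ P.normalizerMonoidHom x = 1 := (MulAut.congr e).map_eq_one_iff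
  have h2 : P.normalizerMonoidHom x = 1 ↔ x ∈ (centralizer (P : Set X)).subgroupOf (normalizer P) := by
    rw [← normalizerMonoidHom_ker, MonoidHom.mem_ker]
  rw [h1, h2, mem_subgroupOf, mem_centralizer_iff]
  exact ⟨fun h p hp => (h p hp).symm, fun h p hp => (h p hp).symm⟩

/-- An element of odd order which commutes with an involution acts trivially on a quaternion
group of order 8 or the involution does. -/
theorem q8_comm [Finite X] {P : Subgroup X} (e : P ≃* Q8) {x v : X}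
    (hx : ∀ p, p ∈ P ↔ x * p * x⁻¹ ∈ P) (hv : ∀ p, p ∈ P ↔ v * p * v⁻¹ ∈ P)
    (hxo : Odd (orderOf x)) (hvv : v * v = 1) (hxv : x * v = v * x) :
    (∀ p ∈ P, x * p = p * x) ∨ (∀ p ∈ P, v * p = p * v) := by
  set x' : normalizer (P : Set X) := ⟨x, mem_normalizer_iff.2 hx⟩ with hx'
  set v' : normalizer (P : Set X) := ⟨v, mem_normalizer_iff.2 hv⟩ with hv'
  have h1 : Odd (orderOf (act P e x')) := by
    refine Odd.of_dvd_nat ?_ (orderOf_map_dvd _ _)
    rw [← Subgroup.orderOf_coe]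
    exact hxo
  have h2 : act P e v' * act P e v' = 1 := by
    rw [← map_mul]
    have : v' * v' = 1 := Subtype.ext hvv
    rw [this, map_one]
  have h3 : act P e x' * act P e v' = act P e v' * act P e x' := by
    rw [← map_mul, ← map_mul]
    congr 1
    exact Subtype.ext hxv
  rcases aut_comm h1 h2 h3 with h | h
  · exact Or.inl (act_eq_one_iff.1 h)
  · exact Or.inr (act_eq_one_iff.1 h)

/-- A group with a normal quaternion group of order 8 has order at most 24 times that of its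
centralizer. -/
theorem card_le [Finite X] {P N : Subgroup X} (e : P ≃* Q8) (hN : ∀ n ∈ N, ∀ p ∈ P, n * p * n⁻¹ ∈ P)
    {k : ℕ} (hk : ∀ D : Subgroup X, (∀ d ∈ D, d ∈ N ∧ ∀ p ∈ P, d * p = p * d) → Nat.card D ≤ k) :
    Nat.card N ≤ 24 * k := by
  have hle : N ≤ normalizer (P : Set X) := by
    intro n hn
    rw [mem_normalizer_iff]
    refine fun p => ⟨hN n hn p, fun h => ?_⟩
    have := hN n⁻¹ (inv_mem hn) _ h
    have e1 : n⁻¹ * (n * p * n⁻¹) * n⁻¹⁻¹ = p := by group
    rwa [e1] at this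
  let f : N →* MulAut Q8 := (act P e).comp (inclusion hle)
  have h1 : Nat.card N = Nat.card f.ker * Nat.card f.range := by
    rw [← Subgroup.index_ker f, Subgroup.card_mul_index]
  have h2 : Nat.card f.range ≤ 24 :=
    (Nat.card_le_card_of_injective _ f.range.subtype_injective).trans card_aut
  have h3 : Nat.card f.ker ≤ k := by
    have h4 := hk (f.ker.map N.subtype) ?_
    · rwa [← Nat.card_congr (f.ker.equivMapOfInjective N.subtype N.subtype_injective).toEquiv] at h4
    · rintro _ ⟨d, hd, rfl⟩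
      exact ⟨d.2, act_eq_one_iff.1 ((MonoidHom.mem_ker.1 hd :))⟩
  rw [h1, mul_comm]
  exact Nat.mul_le_mul h2 h3

/-! ### `SL(2,3)` -/

set_option maxRecDepth 100000 in
theorem q8_center : ∀ c : Q8, (∀ p, c * p = p * c) → c = 1 ∨ c = .a 2 := by decide +kernel

theorem central_of {Y : Type*} [Group Y] {P : Subgroup Y} (hn : P.Normal) (hi : P.index = 3)
    (e : P ≃* Q8) {c : Y} (hc : ∀ p ∈ P, c * p = p * c) : c ∈ center Y := by
  by_cases hcP : c ∈ P
  · have key : ∀ d : P, (∀ p : P, d * p = p * d) → d = 1 ∨ d = e.symm (.a 2) := by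
      intro d hd
      rcases q8_center (e d) (fun p => by
        have := congrArg e (hd (e.symm p))
        rw [map_mul, map_mul, e.apply_symm_apply] at this
        exact this) with h | h
      · left
        exact e.map_eq_one_iff.1 h
      · right
        rw [← h, e.symm_apply_apply]
    rw [mem_center_iff]
    intro g
    have h1 := key ⟨c, hcP⟩ (fun p => Subtype.ext (hc p p.2))
    have h2 := key ⟨g * c * g⁻¹, hn.conj_mem c hcP g⟩ (fun p => Subtype.ext (by
      show g * c * g⁻¹ * p = p * (g * c * g⁻¹)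
      have h3 := hc (g⁻¹ * p * g) (by
        have := hn.conj_mem p p.2 g⁻¹
        rwa [inv_inv] at this)
      calc g * c * g⁻¹ * p = g * (c * (g⁻¹ * p * g)) * g⁻¹ := by group
        _ = g * ((g⁻¹ * p * g) * c) * g⁻¹ := by rw [h3]
        _ = p * (g * c * g⁻¹) := by group))
    have h5 : g * c * g⁻¹ = c := by
      rcases h1 with h1 | h1
      · have h1' : c = 1 := congrArg Subtype.val h1
        rw [h1']; group
      · rcases h2 with h2 | h2
        · have h2' : g * c * g⁻¹ = 1 := congrArg Subtype.val h2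
          have h3 : c = 1 := by
            calc c = g⁻¹ * (g * c * g⁻¹) * g := by group
              _ = 1 := by rw [h2']; group
          rw [h3]; group
        · exact congrArg Subtype.val (h2.trans h1.symm)
    calc g * c = g * c * g⁻¹ * g := by group
      _ = c * g := by rw [h5]
  · -- `Y = P ⟨c⟩`
    have h1 : P ⊔ zpowers c = ⊤ := by
      have h2 : (P ⊔ zpowers c).index ∣ 3 := by
        rw [← hi]
        exact index_dvd_of_le le_sup_left
      rcases (Nat.dvd_prime Nat.prime_three).1 h2 with h3 | h3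
      · exact index_eq_one.1 h3
      · exfalso
        apply hcP
        have h4 : P = P ⊔ zpowers c := by
          have h5 : P.relIndex (P ⊔ zpowers c) * (P ⊔ zpowers c).index = P.index :=
            relIndex_mul_index le_sup_left
          rw [h3, hi] at h5
          have h6 : P.relIndex (P ⊔ zpowers c) = 1 := by omega
          exact le_antisymm le_sup_left (relIndex_eq_one.1 h6)
        rw [h4]
        exact mem_sup_right (mem_zpowers c)
    rw [mem_center_iff]
    intro g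
    have h2 : P ⊔ zpowers c ≤ centralizer ({c} : Set Y) := by
      apply sup_le
      · intro p hp
        rw [mem_centralizer_singleton_iff]
        exact (hc p hp).symm
      · rw [zpowers_le, mem_centralizer_singleton_iff]
    have h3 : g ∈ P ⊔ zpowers c := by rw [h1]; exact mem_top g
    exact mem_centralizer_singleton_iff.1 (h2 h3)

/-- The data of `SL(2,3)`. -/
theorem exists_q8 {Y : Type*} [Group Y] {F : Type*} [Field F] [Fintype F] (h3 : Fintype.card F = 3)
    (e : Y ≃* Matrix.SpecialLinearGroup (Fin 2) F) : Nat.card Y = 24 ∧ ∃ P : Subgroup Y,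
      P.Normal ∧ P.index = 3 ∧ Nonempty (P ≃* Q8) ∧ (∀ y, y ∈ P ↔ y ^ 8 = 1) ∧
      ∀ c ∈ center Y, c * c = 1 := by
  obtain ⟨⟨Q, hQn, hQi, ⟨eQ⟩⟩, hZ⟩ := Cfsg.Agent.S0257.result h3
  let P := Q.comap e.toMonoidHom
  have hPn : P.Normal := hQn.comap _
  have hPi : P.index = 3 := by
    rw [index_comap_of_surjective Q e.surjective, hQi]
  let eP : P ≃* Q8 := (MulEquiv.ofBijective (e.toMonoidHom.subgroupComap Q)
    ⟨fun a b h => Subtype.ext (e.injective (congrArg Subtype.val h)),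
      MonoidHom.subgroupComap_surjective_of_surjective _ _ e.surjective⟩).trans eQ
  have hPc : Nat.card P = 8 := by
    rw [Nat.card_congr eP.toEquiv, Nat.card_eq_fintype_card, QuaternionGroup.card]
  refine ⟨?_, P, hPn, hPi, ⟨eP⟩, ?_, ?_⟩
  · rw [← P.card_mul_index, hPc, hPi]
  · intro y
    constructor
    · intro hy
      have h1 : (⟨y, hy⟩ : P) ^ Nat.card P = 1 := pow_card_eq_one'
      rw [hPc] at h1
      exact congrArg Subtype.val h1
    · intro hy
      have h1 : (QuotientGroup.mk' P y) ^ 3 = 1 := by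
        have : Nat.card (Y ⧸ P) = 3 := hPi
        rw [← this]
        exact pow_card_eq_one'
      have h2 : (QuotientGroup.mk' P y) ^ 8 = 1 := by rw [← map_pow, hy, map_one]
      have h4 : QuotientGroup.mk' P y = 1 := by
        have h5 := orderOf_dvd_of_pow_eq_one h1
        have h6 := orderOf_dvd_of_pow_eq_one h2
        have h7 := Nat.dvd_gcd h5 h6
        have h8 : Nat.gcd 3 8 = 1 := by norm_num
        rw [h8, Nat.dvd_one, orderOf_eq_one_iff] at h7
        exact h7
      exact (QuotientGroup.eq_one_iff y).1 h4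
  · intro c hc
    have h1 : Nat.card (center Y) = 2 := by
      rw [← hZ]
      exact Nat.card_congr (Subgroup.centerCongr e).toEquiv
    have h2 : (⟨c, hc⟩ : center Y) ^ Nat.card (center Y) = 1 := pow_card_eq_one'
    rw [h1, sq] at h2
    exact congrArg Subtype.val h2

end Cfsg.Agent.SylowLFive.ThreeAux
end

-- part: SylowLFive/MElevenOut
section
prune_inst 0x200400400000000000000000000000400000020000000011400400000e100000000000408008001002800020000020021000004000000000000000000000000000520082480100000000002007180c00000000000000000000000000041000000000000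
set_option linter.all false
open scoped Cfsg.Agent.FastGrp

/-!
# The frame of type `L₅(q)` does not contain `M₁₁`

`t = t₁₂`, `u = t₃₄`, `v = t₄₅`, `r = t₁₅`; `J ∋ u, v` is normal in `C(t)`, `J' ∋ t, r` is normal in
`C(u)`; `J` and `J'` are simple of order 7920; `p` induces `(1 2)`, `q` induces `(1 5)`. If `t` is
not conjugate to `t * u` and no involution centralizes `J` and `J'`, this is impossible: an element
`d` of order three of `J'` commuting with `t` centralizes `J`, `t` is isolated in `C(d)`, and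
Glauberman's `Z*`-theorem gives a group of odd order on which `J` acts.
-/

set_option autoImplicit false

namespace Cfsg.Agent.SylowLFive.MElevenOut

open Subgroup Cfsg MElevenFacts

/-- A finite type with a fixed point free involution has an even number of elements. -/
theorem even_card_of_invol {α : Type*} [Finite α] (f : α → α) (hf : ∀ n, f (f n) = n)
    (hne : ∀ n, f n ≠ n) : Even (Nat.card α) := by
  classical
  have := Fintype.ofFinite α
  let f' : Function.End α := f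
  have hf2 : f' ^ 2 ^ 1 = 1 := by
    rw [pow_one]
    refine (pow_two (M := Function.End α) f').trans ?_
    funext n
    exact hf n
  have hmod := Equiv.Perm.card_fixedPoints_modEq (f := f') (p := 2) (n := 1) hf2
  have h0 : Fintype.card (Function.fixedPoints f') = 0 := by
    rw [Fintype.card_eq_zero_iff]
    exact ⟨fun x => hne x.1 x.2⟩
  have h1 : Fintype.card α ≡ 0 [MOD 2] := by
    rw [← h0]
    convert hmod
  rw [Nat.card_eq_fintype_card, Nat.even_iff]
  exact h1

/-- The configuration. -/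
structure Frame {G : Type*} [Group G] (t u v r p q : G) (J J' : Subgroup G) : Prop where
  tt : t * t = 1
  uu : u * u = 1
  vv : v * v = 1
  rr : r * r = 1
  t1 : t ≠ 1
  r1 : r ≠ 1
  tr_ne : t ≠ r
  u1 : u ≠ 1
  v1 : v ≠ 1
  uv_ne : u ≠ v
  tu : t * u = u * t
  tv : t * v = v * t
  tr : t * r = r * t
  uv : u * v = v * u
  vr : v * r = r * v
  uJ : u ∈ J
  vJ : v ∈ J
  tJ' : t ∈ J'
  rJ' : r ∈ J'
  cJ : ∀ x ∈ J, x * t = t * x
  cJ' : ∀ x ∈ J', x * u = u * x
  nJ : ∀ c, c * t = t * c → ∀ x ∈ J, c * x * c⁻¹ ∈ J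
  nJ' : ∀ c, c * u = u * c → ∀ x ∈ J', c * x * c⁻¹ ∈ J'
  hJ : IsM11 J
  hJ' : IsM11 J'
  pt : p * t = t * p
  pu : p * u = u * p
  pv : p * v = v * p
  pr : p * r * p⁻¹ = t * r
  qu : q * u = u * q
  qr : q * r = r * q
  qv : q * v * q⁻¹ = v * r
  ntu : ∀ g : G, g * t * g⁻¹ ≠ t * u
  fix : ∀ y : G, y * y = 1 → (∀ x ∈ J, y * x = x * y) → (∀ x ∈ J', y * x = x * y) → y = 1

variable {G : Type*} [Group G] [Finite G] {t u v r p q : G} {J J' : Subgroup G}

omit [Finite G] in
theorem coe_orderOf_two {J : Subgroup G} {a : G} (ha : a ∈ J) (h : a * a = 1) (h1 : a ≠ 1) :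
    orderOf (⟨a, ha⟩ : J) = 2 := by
  rw [← Subgroup.orderOf_coe]; exact orderOf_two h h1

/-- `C_J(⟨u, v⟩) = ⟨u, v⟩` -/
theorem four {J : Subgroup G} (hJ : IsM11 J) {a b x : G} (ha : a ∈ J) (hb : b ∈ J) (hx : x ∈ J)
    (haa : a * a = 1) (hbb : b * b = 1) (ha1 : a ≠ 1) (hb1 : b ≠ 1) (hne : a ≠ b)
    (hab : a * b = b * a) (hxa : x * a = a * x) (hxb : x * b = b * x) :
    x = 1 ∨ x = a ∨ x = b ∨ x = a * b := by
  have := cent_four hJ (a := ⟨a, ha⟩) (b := ⟨b, hb⟩) (x := ⟨x, hx⟩)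
    (coe_orderOf_two ha haa ha1) (coe_orderOf_two hb hbb hb1)
    (fun h => hne (congrArg Subtype.val h)) (Subtype.ext hab) (Subtype.ext hxa) (Subtype.ext hxb)
  rcases this with h | h | h | h
  · exact Or.inl (congrArg Subtype.val h)
  · exact Or.inr (Or.inl (congrArg Subtype.val h))
  · exact Or.inr (Or.inr (Or.inl (congrArg Subtype.val h)))
  · exact Or.inr (Or.inr (Or.inr (congrArg Subtype.val h)))

/-- conjugation is determined on `J` by an element of `J` -/
theorem inner_unique {J : Subgroup G} (hJ : IsM11 J) {g h : G} (hg : g ∈ J) (hh : h ∈ J)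
    (H : ∀ x ∈ J, g * x * g⁻¹ = h * x * h⁻¹) : g = h := by
  have : h⁻¹ * g = 1 := by
    apply eq_one_of_comm hJ (mul_mem (inv_mem hh) hg)
    intro x hx
    calc h⁻¹ * g * x = h⁻¹ * (g * x * g⁻¹) * g := by group
      _ = h⁻¹ * (h * x * h⁻¹) * g := by rw [H x hx]
      _ = x * (h⁻¹ * g) := by group
  rw [inv_mul_eq_one] at this
  exact this.symm

/-- `v` acts on `J'` as `t`. -/
theorem v_act (F : Frame t u v r p q J J') {x : G} (hx : x ∈ J') :
    v * x * v⁻¹ = t * x * t⁻¹ := by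
  obtain ⟨g, hg, hgx⟩ := _root_.Cfsg.Agent.SylowLFive.MElevenFacts.inner F.hJ' (c := v) (F.nJ' v F.uv.symm)
  have gt : g * t = t * g := by
    have h1 := hgx t F.tJ'
    have h2 : v * t * v⁻¹ = t := by rw [← F.tv]; group
    rw [h2] at h1
    exact (mul_inv_eq_iff_eq_mul.1 h1.symm)
  have gr : g * r = r * g := by
    have h1 := hgx r F.rJ'
    have h2 : v * r * v⁻¹ = r := by rw [F.vr]; group
    rw [h2] at h1
    exact (mul_inv_eq_iff_eq_mul.1 h1.symm)
  have hp : p * g * p⁻¹ = g := by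
    have hpn := F.nJ' p F.pu
    have hpJ : ∀ x ∈ J', p⁻¹ * x * p ∈ J' := by
      intro x hx
      have := F.nJ' p⁻¹ (by
        calc p⁻¹ * u = p⁻¹ * (u * p) * p⁻¹ := by group
          _ = p⁻¹ * (p * u) * p⁻¹ := by rw [F.pu]
          _ = u * p⁻¹ := by group) x hx
      rwa [inv_inv] at this
    apply inner_unique F.hJ' (hpn g hg) hg
    intro x hx
    have h1 := hgx (p⁻¹ * x * p) (hpJ x hx)
    rw [← hgx x hx]
    calc p * g * p⁻¹ * x * (p * g * p⁻¹)⁻¹ = p * (g * (p⁻¹ * x * p) * g⁻¹) * p⁻¹ := by group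
      _ = p * (v * (p⁻¹ * x * p) * v⁻¹) * p⁻¹ := by rw [h1]
      _ = (p * v) * p⁻¹ * x * p * v⁻¹ * p⁻¹ := by group
      _ = (v * p) * p⁻¹ * x * p * v⁻¹ * p⁻¹ := by rw [F.pv]
      _ = v * x * (p * v⁻¹ * p⁻¹) := by group
      _ = v * x * (p * v * p⁻¹)⁻¹ := by group
      _ = v * x * v⁻¹ := by rw [F.pv]; group
  have hti : t⁻¹ = t := inv_eq_of_mul_eq_one_left F.tt
  have hri : r⁻¹ = r := inv_eq_of_mul_eq_one_left F.rr
  rcases four F.hJ' F.tJ' F.rJ' hg F.tt F.rr F.t1 F.r1 F.tr_ne F.tr gt gr with h | h | h | h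
  · -- `v` centralizes `J'`
    exfalso
    subst h
    have hv : ∀ x ∈ J', v * x = x * v := by
      intro x hx
      have := hgx x hx
      rw [mul_inv_eq_iff_eq_mul] at this
      rw [this]; group
    have hvr : ∀ x ∈ J', (v * r) * x = x * (v * r) := by
      intro x hx
      have hqx : q⁻¹ * x * q ∈ J' := by
        have := F.nJ' q⁻¹ (by
          calc q⁻¹ * u = q⁻¹ * (u * q) * q⁻¹ := by group
            _ = q⁻¹ * (q * u) * q⁻¹ := by rw [F.qu]
            _ = u * q⁻¹ := by group) x hx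
        rwa [inv_inv] at this
      have h1 := hv _ hqx
      rw [← F.qv]
      calc q * v * q⁻¹ * x = q * (v * (q⁻¹ * x * q)) * q⁻¹ := by group
        _ = q * ((q⁻¹ * x * q) * v) * q⁻¹ := by rw [h1]
        _ = x * (q * v * q⁻¹) := by group
    apply F.r1
    apply eq_one_of_comm F.hJ' F.rJ'
    intro x hx
    have h1 := hvr x hx
    have h2 := hv x hx
    have : v * (r * x) = v * (x * r) := by
      calc v * (r * x) = v * r * x := by group
        _ = x * v * r := by rw [h1]; group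
        _ = v * (x * r) := by rw [← h2]; group
    exact mul_left_cancel this
  · rw [hgx x hx, h]
  · exfalso
    subst h
    rw [F.pr] at hp
    apply F.t1
    exact mul_eq_right.1 hp
  · exfalso
    rw [h] at hp
    have h1 : p * (t * r) * p⁻¹ = r := by
      calc p * (t * r) * p⁻¹ = (p * t) * p⁻¹ * (p * r * p⁻¹) := by group
        _ = (t * p) * p⁻¹ * (t * r) := by rw [F.pt, F.pr]
        _ = (t * t) * r := by group
        _ = r := by rw [F.tt, one_mul]
    rw [h1] at hp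
    exact F.t1 (mul_eq_right.1 hp.symm)

/-- An element `d` of order three of `J'` commuting with `t` centralizes `J`. -/
theorem d_J (F : Frame t u v r p q J J') {d : G} (hd : d ∈ J') (h3 : orderOf d = 3)
    (hdt : d * t = t * d) {x : G} (hx : x ∈ J) : d * x = x * d := by
  have hdv : d * v = v * d := by
    have h1 := v_act F hd
    have h2 : t * d * t⁻¹ = d := by rw [← hdt]; group
    rw [h2] at h1
    exact (mul_inv_eq_iff_eq_mul.1 h1).symm
  have hdu := F.cJ' d hd
  obtain ⟨h, hh, hhx⟩ := _root_.Cfsg.Agent.SylowLFive.MElevenFacts.inner F.hJ (c := d) (F.nJ d hdt)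
  have hu : h * u = u * h := by
    have h1 := hhx u F.uJ
    have h2 : d * u * d⁻¹ = u := by rw [hdu]; group
    rw [h2] at h1
    exact (mul_inv_eq_iff_eq_mul.1 h1.symm)
  have hv : h * v = v * h := by
    have h1 := hhx v F.vJ
    have h2 : d * v * d⁻¹ = v := by rw [hdv]; group
    rw [h2] at h1
    exact (mul_inv_eq_iff_eq_mul.1 h1.symm)
  have hhh : h * h = 1 := by
    rcases four F.hJ F.uJ F.vJ hh F.uu F.vv F.u1 F.v1 F.uv_ne F.uv hu hv with e | e | e | e
    · rw [e, one_mul]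
    · rw [e, F.uu]
    · rw [e, F.vv]
    · rw [e]
      calc u * v * (u * v) = u * (v * u) * v := by group
        _ = (u * u) * (v * v) := by rw [← F.uv]; group
        _ = 1 := by rw [F.uu, F.vv, one_mul]
  have hdd : ∀ x ∈ J, d * d * x * (d * d)⁻¹ = x := by
    intro x hx
    have h1 : d * x * d⁻¹ ∈ J := F.nJ d hdt x hx
    calc d * d * x * (d * d)⁻¹ = d * (d * x * d⁻¹) * d⁻¹ := by group
      _ = h * (h * x * h⁻¹) * h⁻¹ := by rw [hhx _ h1, hhx x hx]
      _ = (h * h) * x * (h * h)⁻¹ := by group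
      _ = x := by rw [hhh]; group
  have hd3 : d * d * d = 1 := by
    have := pow_orderOf_eq_one d
    rw [h3, pow_succ, pow_two] at this
    exact this
  have hdi : d * d * (d * d) = d := by
    calc d * d * (d * d) = (d * d * d) * d := by group
      _ = d := by rw [hd3, one_mul]
  have h5 : d * x * d⁻¹ = x := by
    calc d * x * d⁻¹ = (d * d * (d * d)) * x * (d * d * (d * d))⁻¹ := by rw [hdi]
      _ = d * d * (d * d * x * (d * d)⁻¹) * (d * d)⁻¹ := by group
      _ = x := by rw [hdd x hx, hdd x hx]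
  exact mul_inv_eq_iff_eq_mul.1 h5

/-- `t` is isolated in `C(d)`. -/
theorem isolated (F : Frame t u v r p q J J') {d : G} (hd : d ∈ J') (h3 : orderOf d = 3)
    (hdt : d * t = t * d) {x : G} (hx : x * d = d * x)
    (hc : (x * t * x⁻¹) * t = t * (x * t * x⁻¹)) : x * t * x⁻¹ = t := by
  have hJ3 : orderOf (⟨d, hd⟩ : J') = 3 := by rw [← Subgroup.orderOf_coe]; exact h3
  have hdJ : ∀ x ∈ J, d * x = x * d := fun x hx => d_J F hd h3 hdt hx
  -- `t` is not conjugate to `u` in `C(d)`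
  have hnu : ∀ y : G, y * d = d * y → y * t * y⁻¹ ≠ u := by
    intro y hy hyu
    have hyt : y * t = u * y := mul_inv_eq_iff_eq_mul.1 hyu
    let α : J →* G := (MulAut.conj y).toMonoidHom.comp J.subtype
    have hα : ∀ a : J, α a = y * (a : G) * y⁻¹ := fun a => rfl
    have hαu : ∀ a : J, α a * u = u * α a := by
      intro a
      rw [hα, ← hyu]
      have := F.cJ a a.2
      calc y * (a : G) * y⁻¹ * (y * t * y⁻¹) = y * (a * t) * y⁻¹ := by group
        _ = y * (t * a) * y⁻¹ := by rw [this]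
        _ = y * t * y⁻¹ * (y * a * y⁻¹) := by group
    have hyd : y⁻¹ * d = d * y⁻¹ := by
      calc y⁻¹ * d = y⁻¹ * (d * y) * y⁻¹ := by group
        _ = y⁻¹ * (y * d) * y⁻¹ := by rw [hy]
        _ = d * y⁻¹ := by group
    have hαd : ∀ a : J, α a * d = d * α a := by
      intro a
      rw [hα]
      have := hdJ a a.2
      calc y * (a : G) * y⁻¹ * d = y * a * (y⁻¹ * d) := by group
        _ = y * (a * d) * y⁻¹ := by rw [hyd]; group
        _ = (y * d) * a * y⁻¹ := by rw [← this]; group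
        _ = d * (y * a * y⁻¹) := by rw [hy]; group
    have h1 : ∀ a : J, ∀ x ∈ J', α a * x = x * α a := by
      intro a x hx
      refine triv F.hJ F.hJ' α (fun a x hx => F.nJ' _ (hαu a) x hx) hd hαd ?_ a hx
      rw [Cfsg.Agent.SporadicA.M11Facts2.card_centralizer_three F.hJ' hJ3]
      norm_num
    have h2 : ∀ a : J, ∀ x ∈ J, α a * x = x * α a := by
      intro a x hx
      refine triv F.hJ F.hJ α (fun a x hx => F.nJ _ (h1 a t F.tJ') x hx) F.uJ hαu ?_ a hx
      rw [Cfsg.Agent.SporadicA.M11Facts.card_centralizer_two F.hJ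
        (coe_orderOf_two F.uJ F.uu F.u1)]
      norm_num
    have h3' := F.fix (α ⟨u, F.uJ⟩) (by
      rw [← map_mul]
      have : (⟨u, F.uJ⟩ * ⟨u, F.uJ⟩ : J) = 1 := Subtype.ext F.uu
      rw [this, map_one]) (h2 _) (h1 _)
    rw [hα] at h3'
    apply F.u1
    have := mul_inv_eq_one.1 h3'
    exact mul_eq_left.1 this
  set w := x * t * x⁻¹ with hw
  have hww : w * w = 1 := by
    calc w * w = x * (t * t) * x⁻¹ := by rw [hw]; group
      _ = 1 := by rw [F.tt]; group
  have hw1 : w ≠ 1 := by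
    intro h
    rw [hw, mul_inv_eq_one] at h
    exact F.t1 (mul_eq_left.1 h)
  have hwd : w * d = d * w := by
    have hxd : x⁻¹ * d = d * x⁻¹ := by
      calc x⁻¹ * d = x⁻¹ * (d * x) * x⁻¹ := by group
        _ = x⁻¹ * (x * d) * x⁻¹ := by rw [hx]
        _ = d * x⁻¹ := by group
    calc w * d = x * t * (x⁻¹ * d) := by rw [hw]; group
      _ = x * (t * d) * x⁻¹ := by rw [hxd]; group
      _ = (x * d) * t * x⁻¹ := by rw [← hdt]; group
      _ = d * w := by rw [hx, hw]; group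
  obtain ⟨j, hj, hjx⟩ := _root_.Cfsg.Agent.SylowLFive.MElevenFacts.inner F.hJ (c := w) (F.nJ w hc)
  have hjj : j * j = 1 := by
    apply eq_one_of_comm F.hJ (mul_mem hj hj)
    intro y hy
    have h1 : w * y * w⁻¹ ∈ J := F.nJ w hc y hy
    have : j * j * y * (j * j)⁻¹ = y := by
      calc j * j * y * (j * j)⁻¹ = j * (j * y * j⁻¹) * j⁻¹ := by group
        _ = w * (w * y * w⁻¹) * w⁻¹ := by rw [← hjx y hy, ← hjx _ h1]
        _ = (w * w) * y * (w * w)⁻¹ := by group
        _ = y := by rw [hww]; group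
    exact mul_inv_eq_iff_eq_mul.1 this
  have hji : j⁻¹ = j := inv_eq_of_mul_eq_one_left hjj
  have hjt := F.cJ j hj
  have hjd := (hdJ j hj).symm
  -- the part `y` of `w` centralizing `J`
  set y := j * w with hy
  have hwy : w = j * y := by rw [hy, ← mul_assoc, hjj, one_mul]
  have hyJ : ∀ x ∈ J, y * x = x * y := by
    intro x hx
    have h1 := hjx x hx
    have h2 : y * x * y⁻¹ = x := by
      calc y * x * y⁻¹ = j * (w * x * w⁻¹) * j⁻¹ := by rw [hy]; group
        _ = j * (j * x * j⁻¹) * j⁻¹ := by rw [h1]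
        _ = (j * j) * x * (j * j)⁻¹ := by group
        _ = x := by rw [hjj]; group
    exact mul_inv_eq_iff_eq_mul.1 h2
  have hyy : y * y = 1 := by
    have h1 := hyJ j hj
    calc y * y = y * (j * w) := rfl
      _ = (y * j) * w := by group
      _ = j * y * w := by rw [h1]
      _ = j * j * w * w := by rw [hy]; group
      _ = (j * j) * (w * w) := by group
      _ = 1 := by rw [hjj, hww, one_mul]
  have hyt : y * t = t * y := by
    calc y * t = j * (w * t) := by rw [hy]; group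
      _ = (j * t) * w := by rw [hc]; group
      _ = t * y := by rw [hjt, hy]; group
  have hyd : y * d = d * y := by
    calc y * d = j * (w * d) := by rw [hy]; group
      _ = (j * d) * w := by rw [hwd]; group
      _ = d * y := by rw [hjd, hy]; group
  -- `y` acts on `J'` as `1` or `t`
  have hyt1 : y = 1 ∨ y = t := by
    obtain ⟨h, hh, hhx⟩ := _root_.Cfsg.Agent.SylowLFive.MElevenFacts.inner F.hJ' (c := y) (F.nJ' y (hyJ u F.uJ))
    have hhh : h * h = 1 := by
      apply eq_one_of_comm F.hJ' (mul_mem hh hh)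
      intro z hz
      have h1 : y * z * y⁻¹ ∈ J' := F.nJ' y (hyJ u F.uJ) z hz
      have : h * h * z * (h * h)⁻¹ = z := by
        calc h * h * z * (h * h)⁻¹ = h * (h * z * h⁻¹) * h⁻¹ := by group
          _ = y * (y * z * y⁻¹) * y⁻¹ := by rw [← hhx z hz, ← hhx _ h1]
          _ = (y * y) * z * (y * y)⁻¹ := by group
          _ = z := by rw [hyy]; group
      exact mul_inv_eq_iff_eq_mul.1 this
    have ht : h * t = t * h := by
      have h1 := hhx t F.tJ'
      have h2 : y * t * y⁻¹ = t := by rw [hyt]; group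
      rw [h2] at h1
      exact (mul_inv_eq_iff_eq_mul.1 h1.symm)
    have hd' : h * d = d * h := by
      have h1 := hhx d hd
      have h2 : y * d * y⁻¹ = d := by rw [hyd]; group
      rw [h2] at h1
      exact (mul_inv_eq_iff_eq_mul.1 h1.symm)
    have hor := eq_of_comm_three F.hJ' (a := ⟨t, F.tJ'⟩) (d := ⟨d, hd⟩) (h := ⟨h, hh⟩)
      (coe_orderOf_two F.tJ' F.tt F.t1) hJ3 (Subtype.ext hdt) (Subtype.ext hhh)
      (Subtype.ext ht) (Subtype.ext hd')
    rcases hor with e | e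
    · left
      have e' : h = 1 := congrArg Subtype.val e
      subst e'
      apply F.fix y hyy hyJ
      intro z hz
      have := hhx z hz
      rw [mul_inv_eq_iff_eq_mul] at this
      rw [this]; group
    · right
      have e' : h = t := congrArg Subtype.val e
      have h1 : t * y = 1 := by
        apply F.fix
        · calc t * y * (t * y) = t * (y * t) * y := by group
            _ = (t * t) * (y * y) := by rw [hyt]; group
            _ = 1 := by rw [F.tt, hyy, one_mul]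
        · intro z hz
          calc t * y * z = t * (y * z) := by group
            _ = (t * z) * y := by rw [hyJ z hz]; group
            _ = z * (t * y) := by rw [← F.cJ z hz]; group
        · intro z hz
          have h2 := hhx z hz
          rw [e'] at h2
          have : t * y * z * (t * y)⁻¹ = z := by
            calc t * y * z * (t * y)⁻¹ = t * (y * z * y⁻¹) * t⁻¹ := by group
              _ = t * (t * z * t⁻¹) * t⁻¹ := by rw [h2]
              _ = (t * t) * z * (t * t)⁻¹ := by group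
              _ = z := by rw [F.tt]; group
          exact mul_inv_eq_iff_eq_mul.1 this
      have hti : t⁻¹ = t := inv_eq_of_mul_eq_one_left F.tt
      rw [← hti]
      exact (eq_inv_of_mul_eq_one_right h1)
  by_cases hj1 : j = 1
  · rw [hwy, hj1, one_mul]
    rcases hyt1 with e | e
    · exact absurd (by rw [hwy, hj1, e, one_mul]) hw1
    · exact e
  · exfalso
    obtain ⟨k, hk⟩ := isConj_iff.1 (Cfsg.Agent.SporadicA.M11Facts.isConj_involutions F.hJ
      (coe_orderOf_two hj hjj hj1) (coe_orderOf_two F.uJ F.uu F.u1))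
    have hk' : (k : G) * j * (k : G)⁻¹ = u := congrArg Subtype.val hk
    rcases hyt1 with e | e
    · -- `w = j`
      apply hnu (k * x)
      · have := hdJ k k.2
        calc (k : G) * x * d = k * (x * d) := by group
          _ = (k * d) * x := by rw [hx]; group
          _ = d * (k * x) := by rw [← this]; group
      · calc (k : G) * x * t * (k * x)⁻¹ = k * (x * t * x⁻¹) * (k : G)⁻¹ := by group
          _ = k * j * (k : G)⁻¹ := by rw [← hw, hwy, e, mul_one]
          _ = u := hk'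
    · apply F.ntu (k * x)
      have hkt := F.cJ k k.2
      calc (k : G) * x * t * (k * x)⁻¹ = k * (x * t * x⁻¹) * (k : G)⁻¹ := by group
        _ = k * (j * t) * (k : G)⁻¹ := by rw [← hw, hwy, e]
        _ = (k * j * (k : G)⁻¹) * (k * t * (k : G)⁻¹) := by group
        _ = u * t := by rw [hk', hkt]; group
        _ = t * u := F.tu.symm

/-- The normal subgroup of odd order of `C(d)` given by the `Z*`-theorem. -/
theorem exists_core (F : Frame t u v r p q J J') {d : G} (hd : d ∈ J') (h3 : orderOf d = 3)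
    (hdt : d * t = t * d) : ∃ N : Subgroup G, Odd (Nat.card N) ∧ (∀ n ∈ N, n * d = d * n) ∧
      (∀ x, x * d = d * x → ∀ n ∈ N, x * n * x⁻¹ ∈ N) ∧
      (∀ x, x * d = d * x → t * x * t⁻¹ * x⁻¹ ∈ N) := by
  classical
  have p2 : Fact (Nat.Prime 2) := ⟨Nat.prime_two⟩
  set X := centralizer ({d} : Set G) with hX
  have hmem : ∀ {x : G}, x ∈ X ↔ x * d = d * x := mem_centralizer_singleton_iff
  let t' : X := ⟨t, hmem.2 hdt.symm⟩
  have ht' : orderOf t' = 2 := by
    rw [← Subgroup.orderOf_coe]; exact orderOf_two F.tt F.t1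
  have hiso' : Cfsg.IsIsolatedInvolution t' := by
    refine ⟨ht', fun g hg => ?_⟩
    apply Subtype.ext
    exact isolated F hd h3 hdt (hmem.1 g.2) (congrArg Subtype.val hg).symm
  have hp : IsPGroup 2 (zpowers t') := by
    rw [IsPGroup.iff_card]
    exact ⟨1, by rw [Nat.card_zpowers, ht', pow_one]⟩
  obtain ⟨P, hP⟩ := hp.exists_le_sylow
  have htP : t' ∈ P := hP (mem_zpowers t')
  obtain ⟨N, hN, hodd, hcomm⟩ := Cfsg.Agent.S0215.result P t' ht' htP fun g hg =>
    Cfsg.Agent.S1180.eq_of_conj_mem_isPGroup t' hiso' (P : Subgroup X) P.isPGroup' htP g hg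
  refine ⟨N.map X.subtype, ?_, ?_, ?_, ?_⟩
  · rw [Subgroup.card_map_of_injective (subtype_injective X)]; exact hodd
  · rintro _ ⟨n, _, rfl⟩
    exact hmem.1 n.2
  · rintro x hx _ ⟨n, hn, rfl⟩
    exact ⟨(⟨x, hmem.2 hx⟩ * n * ⟨x, hmem.2 hx⟩⁻¹ :), hN.conj_mem n hn _, rfl⟩
  · intro x hx
    exact ⟨(t' * ⟨x, hmem.2 hx⟩ * t'⁻¹ * ⟨x, hmem.2 hx⟩⁻¹ :), hcomm ⟨x, hmem.2 hx⟩, rfl⟩

omit [Finite G] in
theorem card_fix (N : Subgroup G) (a : G) :
    Nat.card {h : G // h ∈ N ∧ (MulAut.conj a).toMonoidHom h = h} =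
      Nat.card (N ⊓ centralizer ({a} : Set G) : Subgroup G) := by
  apply Nat.card_congr
  refine Equiv.subtypeEquivRight fun x => ?_
  rw [mem_inf, mem_centralizer_singleton_iff]
  refine and_congr Iff.rfl ?_
  change a * x * a⁻¹ = x ↔ _
  rw [mul_inv_eq_iff_eq_mul]
  exact eq_comm

omit [Finite G] in
theorem conj_conj {a : G} (h : a * a = 1) (g : G) :
    (MulAut.conj a).toMonoidHom ((MulAut.conj a).toMonoidHom g) = g := by
  change a * (a * g * a⁻¹) * a⁻¹ = g
  calc a * (a * g * a⁻¹) * a⁻¹ = (a * a) * g * (a * a)⁻¹ := by group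
    _ = g := by rw [h]; group

/-- **The configuration is impossible.** -/
theorem false (F : Frame t u v r p q J J') : False := by
  classical
  obtain ⟨⟨d, hd⟩, h3', hdt'⟩ := exists_three F.hJ' (coe_orderOf_two F.tJ' F.tt F.t1)
  have h3 : orderOf d = 3 := by rw [← Subgroup.orderOf_coe] at h3'; exact h3'
  have hdt : d * t = t * d := congrArg Subtype.val hdt'
  have hdJ : ∀ x ∈ J, d * x = x * d := fun x hx => d_J F hd h3 hdt hx
  obtain ⟨⟨s, hs⟩, hs1', hso', hsd', hst', hsall⟩ := three_data F.hJ'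
    (coe_orderOf_two F.tJ' F.tt F.t1) h3' hdt'
  have hs1 : s ≠ 1 := fun h => hs1' (Subtype.ext h)
  have hso : Odd (orderOf s) := by rw [← Subgroup.orderOf_coe] at hso'; exact hso'
  have hsd : s * d = d * s := congrArg Subtype.val hsd'
  have hst : t * s * t⁻¹ = s⁻¹ := congrArg Subtype.val hst'
  obtain ⟨N, hodd, hNd, hNx, hNt⟩ := exists_core F hd h3 hdt
  have hti : t⁻¹ = t := inv_eq_of_mul_eq_one_left F.tt
  have hui : u⁻¹ = u := inv_eq_of_mul_eq_one_left F.uu
  have hJX : ∀ x ∈ J, x * d = d * x := fun x hx => (hdJ x hx).symm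
  have hNodd : ∀ n ∈ N, Odd (orderOf n) := by
    intro n hn
    have := _root_.orderOf_dvd_natCard (⟨n, hn⟩ : N)
    rw [← Subgroup.orderOf_coe] at this
    exact Odd.of_dvd_nat hodd this
  -- `s ∈ N`
  have hsN : s ∈ N := by
    apply mem_of_sq_mem hso
    have h1 := hNt s hsd
    rw [hst] at h1
    have := inv_mem h1
    rwa [mul_inv_rev, inv_inv] at this
  -- `J ∩ N = 1`
  have hJN : ∀ x ∈ J, x ∈ N → x = 1 := by
    have hn : (N.subgroupOf J).Normal := by
      constructor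
      intro n hn g
      rw [mem_subgroupOf] at hn ⊢
      exact hNx g (hJX g g.2) n hn
    have hJs := F.hJ.1
    rcases hJs.eq_bot_or_eq_top_of_normal _ hn with h | h
    · intro x hx hxN
      have : (⟨x, hx⟩ : J) ∈ N.subgroupOf J := mem_subgroupOf.2 hxN
      rw [h, mem_bot] at this
      exact congrArg Subtype.val this
    · exfalso
      have : (⟨u, F.uJ⟩ : J) ∈ N.subgroupOf J := by rw [h]; trivial
      have := hNodd u (mem_subgroupOf.1 this)
      rw [orderOf_two F.uu F.u1] at this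
      exact absurd this (by decide)
  -- `C_N(t)` centralizes `J`
  have hcen : ∀ n ∈ N, n * t = t * n → ∀ x ∈ J, n * x = x * n := by
    intro n hn hnt x hx
    have h1 : n * x * n⁻¹ * x⁻¹ = 1 := by
      apply hJN
      · exact mul_mem (F.nJ n hnt x hx) (inv_mem hx)
      · have := hNx x (hJX x hx) _ (inv_mem hn)
        have e : n * x * n⁻¹ * x⁻¹ = n * (x * n⁻¹ * x⁻¹) := by group
        rw [e]
        exact mul_mem hn this
    calc n * x = (n * x * n⁻¹ * x⁻¹) * x * n := by group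
      _ = x * n := by rw [h1, one_mul]
  -- elements of `C_N(u)` inverted by `t`
  have hinv : ∀ n ∈ N, n * u = u * n → t * n * t⁻¹ = n⁻¹ → n = 1 ∨ n = s ∨ n = s⁻¹ := by
    intro n hn hnu hnt
    have hnJ' : n ∈ J' := by
      apply mem_of_sq_mem (hNodd n hn)
      have h1 := F.nJ' n hnu t F.tJ'
      have h2 : n * t * n⁻¹ * t⁻¹ = n * n := by
        calc n * t * n⁻¹ * t⁻¹ = n * (t * n * t⁻¹)⁻¹ := by group
          _ = n * n := by rw [hnt, inv_inv]
      rw [← h2]
      exact mul_mem h1 (inv_mem F.tJ')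
    have := hsall ⟨n, hnJ'⟩ (Subtype.ext (hNd n hn)) (Subtype.ext hnt)
      (by rw [← Subgroup.orderOf_coe]; exact hNodd n hn)
    rcases this with h | h | h
    · exact Or.inl (congrArg Subtype.val h)
    · exact Or.inr (Or.inl (congrArg Subtype.val h))
    · exact Or.inr (Or.inr (congrArg Subtype.val h))
  have hsu : s * u = u * s := F.cJ' s hs
  have hsit : t * s⁻¹ * t⁻¹ = s⁻¹⁻¹ := by
    calc t * s⁻¹ * t⁻¹ = (t * s * t⁻¹)⁻¹ := by group
      _ = s⁻¹⁻¹ := by rw [hst]
  have hsiu : s⁻¹ * u = u * s⁻¹ := by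
    calc s⁻¹ * u = s⁻¹ * (u * s) * s⁻¹ := by group
      _ = s⁻¹ * (s * u) * s⁻¹ := by rw [hsu]
      _ = u * s⁻¹ := by group
  have hsne : s ≠ s⁻¹ := ne_inv_of_odd hso hs1
  have hNt' : ∀ n ∈ N, t * n * t⁻¹ ∈ N := hNx t hdt.symm
  -- the number of fixed points of `t`
  set c := Nat.card (N ⊓ centralizer ({t} : Set G) : Subgroup G) with hc
  have hcpos : 0 < c := Nat.card_pos
  -- `|C_N(u)| = 3 c`
  have hcu : Nat.card (N ⊓ centralizer ({u} : Set G) : Subgroup G) = c * 3 := by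
    have hKodd : Odd (Nat.card (N ⊓ centralizer ({u} : Set G) : Subgroup G)) :=
      Odd.of_dvd_nat hodd (card_dvd_of_le inf_le_left)
    rw [Cfsg.Agent.Lib.KleinOrder.card_eq_fix_mul_inv (N ⊓ centralizer ({u} : Set G)) hKodd
      (MulAut.conj t).toMonoidHom (conj_conj F.tt) (fun h hh => by
        rw [mem_inf, mem_centralizer_singleton_iff] at hh ⊢
        refine ⟨hNt' h hh.1, ?_⟩
        change t * h * t⁻¹ * u = u * (t * h * t⁻¹)
        rw [hti]
        calc t * h * t * u = t * h * (t * u) := by group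
          _ = t * (h * u) * t := by rw [F.tu]; group
          _ = (t * u) * h * t := by rw [hh.2]; group
          _ = u * (t * h * t) := by rw [F.tu]; group), card_fix]
    have heq : N ⊓ centralizer ({u} : Set G) ⊓ centralizer ({t} : Set G) =
        N ⊓ centralizer ({t} : Set G) := by
      apply le_antisymm
      · exact inf_le_inf_right _ inf_le_left
      · intro n hn
        rw [mem_inf, mem_centralizer_singleton_iff] at hn
        rw [mem_inf, mem_inf, mem_centralizer_singleton_iff, mem_centralizer_singleton_iff]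
        exact ⟨⟨hn.1, hcen n hn.1 hn.2 u F.uJ⟩, hn.2⟩
    rw [heq, ← hc]
    congr 1
    · have : ({h : G | h ∈ N ⊓ centralizer ({u} : Set G) ∧
          (MulAut.conj t).toMonoidHom h = h⁻¹} : Set G) = {1, s, s⁻¹} := by
        ext n
        constructor
        · rintro ⟨h1, h2⟩
          rw [mem_inf, mem_centralizer_singleton_iff] at h1
          exact hinv n h1.1 h1.2 h2
        · rintro (h | h | h)
          · subst h
            exact ⟨one_mem _, by simp⟩
          · subst h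
            exact ⟨mem_inf.2 ⟨hsN, mem_centralizer_singleton_iff.2 hsu⟩, hst⟩
          · rw [Set.mem_singleton_iff] at h
            subst h
            exact ⟨mem_inf.2 ⟨inv_mem hsN, mem_centralizer_singleton_iff.2 hsiu⟩, hsit⟩
      change Nat.card ({h : G | h ∈ N ⊓ centralizer ({u} : Set G) ∧
          (MulAut.conj t).toMonoidHom h = h⁻¹} : Set G) = 3
      rw [this, Nat.card_coe_set_eq]
      rw [Set.ncard_insert_of_notMem, Set.ncard_insert_of_notMem, Set.ncard_singleton]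
      · exact hsne
      · rintro (h | h)
        · exact hs1 h.symm
        · rw [Set.mem_singleton_iff] at h
          exact hs1 (inv_eq_one.1 h.symm)
  -- the same for every involution of `J`
  have hca : ∀ a ∈ J, a * a = 1 → a ≠ 1 →
      Nat.card (N ⊓ centralizer ({a} : Set G) : Subgroup G) = c * 3 := by
    intro a ha haa ha1
    rw [← hcu]
    obtain ⟨k, hk⟩ := isConj_iff.1 (Cfsg.Agent.SporadicA.M11Facts.isConj_involutions F.hJ
      (coe_orderOf_two ha haa ha1) (coe_orderOf_two F.uJ F.uu F.u1))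
    have hk' : (k : G) * a * (k : G)⁻¹ = u := congrArg Subtype.val hk
    have hkN : ∀ n, n ∈ N ↔ (k : G) * n * (k : G)⁻¹ ∈ N := by
      intro n
      refine ⟨hNx k (hJX k k.2) n, fun h => ?_⟩
      have h1 := hNx (k : G)⁻¹ (hJX _ (inv_mem k.2)) _ h
      have e : (k : G)⁻¹ * ((k : G) * n * (k : G)⁻¹) * ((k : G)⁻¹)⁻¹ = n := by group
      rwa [e] at h1
    apply Nat.card_congr
    refine (MulAut.conj (k : G)).toEquiv.subtypeEquiv fun n => ?_
    change n ∈ N ⊓ centralizer ({a} : Set G) ↔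
      (k : G) * n * (k : G)⁻¹ ∈ N ⊓ centralizer ({u} : Set G)
    rw [mem_inf, mem_inf, ← hkN, mem_centralizer_singleton_iff, mem_centralizer_singleton_iff,
      ← hk']
    refine and_congr Iff.rfl ⟨fun h => ?_, fun h => ?_⟩
    · calc (k : G) * n * (k : G)⁻¹ * (k * a * (k : G)⁻¹) = k * (n * a) * (k : G)⁻¹ := by group
        _ = k * (a * n) * (k : G)⁻¹ := by rw [h]
        _ = _ := by group
    · have : (k : G) * (n * a) * (k : G)⁻¹ = k * (a * n) * (k : G)⁻¹ := by
        calc (k : G) * (n * a) * (k : G)⁻¹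
            = (k : G) * n * (k : G)⁻¹ * (k * a * (k : G)⁻¹) := by group
          _ = _ := h
          _ = _ := by group
      exact mul_left_cancel (mul_right_cancel this)
  -- the order of `N`
  have hN := Cfsg.Agent.Lib.KleinOrder.card_eq_fix_mul_inv N hodd
      (MulAut.conj t).toMonoidHom (conj_conj F.tt) hNt'
  rw [card_fix, ← hc] at hN
  set m := Nat.card {h : G // h ∈ N ∧ (MulAut.conj t).toMonoidHom h = h⁻¹} with hm
  have hK := Cfsg.Agent.Lib.KleinOrder.card_klein N hodd F.uu F.vv F.uv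
    (hNx u (hJX u F.uJ)) (hNx v (hJX v F.vJ))
  have huv1 : u * v ≠ 1 := by
    intro h
    apply F.uv_ne
    calc u = u * (v * v) := by rw [F.vv, mul_one]
      _ = (u * v) * v := by group
      _ = v := by rw [h, one_mul]
  have huvuv : u * v * (u * v) = 1 := by
    calc u * v * (u * v) = u * (v * u) * v := by group
      _ = (u * u) * (v * v) := by rw [← F.uv]; group
      _ = 1 := by rw [F.uu, F.vv, one_mul]
  rw [hcu, hca v F.vJ F.vv F.v1, hca (u * v) (mul_mem F.uJ F.vJ) huvuv huv1, hN] at hK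
  obtain ⟨k, hk⟩ : c ∣ Nat.card (N ⊓ centralizer ({u} : Set G) ⊓ centralizer ({v} : Set G) :
      Subgroup G) := by
    rw [hc]
    apply card_dvd_of_le
    intro n hn
    rw [mem_inf, mem_centralizer_singleton_iff] at hn
    rw [mem_inf, mem_inf, mem_centralizer_singleton_iff, mem_centralizer_singleton_iff]
    exact ⟨⟨hn.1, hcen n hn.1 hn.2 u F.uJ⟩, hcen n hn.1 hn.2 v F.vJ⟩
  rw [hk] at hK
  have hmk : m * k ^ 2 = 27 := by
    have : c ^ 3 * (m * k ^ 2) = c ^ 3 * 27 := by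
      calc c ^ 3 * (m * k ^ 2) = c * m * (c * k) ^ 2 := by ring
        _ = c * 3 * (c * 3) * (c * 3) := hK
        _ = c ^ 3 * 27 := by ring
    exact Nat.eq_of_mul_eq_mul_left (by (clear * - hcpos; positivity)) this
  have hm27 : m = 27 ∨ m = 3 := by
    have hk5 : k ≤ 5 := by
      by_contra hcon
      push Not at hcon
      have hmpos : 0 < m := by
        rcases Nat.eq_zero_or_pos m with h | h
        · rw [h] at hmk; omega
        · exact h
      nlinarith only [hmk, hcon, hmpos]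
    interval_cases k <;> (clear * - hd hmk; omega)
  -- the action of `J` on the nontrivial elements of `N` inverted by `t`
  let Ω := {n : G // n ∈ N ∧ t * n * t⁻¹ = n⁻¹ ∧ n ≠ 1}
  have hact : ∀ (a : J) (n : G), n ∈ N ∧ t * n * t⁻¹ = n⁻¹ ∧ n ≠ 1 →
      (a : G) * n * (a : G)⁻¹ ∈ N ∧ t * ((a : G) * n * (a : G)⁻¹) * t⁻¹ =
        ((a : G) * n * (a : G)⁻¹)⁻¹ ∧ (a : G) * n * (a : G)⁻¹ ≠ 1 := by
    intro a n ⟨h1, h2, h3⟩
    refine ⟨hNx a (hJX a a.2) n h1, ?_, ?_⟩
    · have hat := F.cJ a a.2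
      have hat' : (a : G)⁻¹ * t⁻¹ = t⁻¹ * (a : G)⁻¹ := by
        rw [← mul_inv_rev, ← mul_inv_rev, hat]
      calc t * ((a : G) * n * (a : G)⁻¹) * t⁻¹ = (t * a) * n * ((a : G)⁻¹ * t⁻¹) := by group
        _ = a * (t * n * t⁻¹) * (a : G)⁻¹ := by rw [hat', ← hat]; group
        _ = ((a : G) * n * (a : G)⁻¹)⁻¹ := by rw [h2]; group
    · intro h
      apply h3
      rw [mul_inv_eq_one] at h
      exact mul_eq_left.1 h
  let act : MulAction J Ω :=
    { smul := fun a n => ⟨(a : G) * n * (a : G)⁻¹, hact a n n.2⟩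
      one_smul := fun n => Subtype.ext (by
        change ((1 : J) : G) * (n : G) * ((1 : J) : G)⁻¹ = n
        rw [Subgroup.coe_one]; group)
      mul_smul := fun a b n => Subtype.ext (by
        change ((a * b : J) : G) * (n : G) * ((a * b : J) : G)⁻¹ =
          (a : G) * ((b : G) * n * (b : G)⁻¹) * (a : G)⁻¹
        rw [Subgroup.coe_mul]; group) }
  have hsmul : ∀ (a : J) (n : Ω), ((a • n : Ω) : G) = (a : G) * n * (a : G)⁻¹ := fun _ _ => rfl
  have hfin : Finite Ω := inferInstance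
  have hcardΩ : Nat.card Ω + 1 = m := by
    have h1 : Nat.card Ω = ({n : G | n ∈ N ∧ t * n * t⁻¹ = n⁻¹} \ {1} : Set G).ncard := by
      rw [← Nat.card_coe_set_eq]
      apply Nat.card_congr
      refine Equiv.subtypeEquivRight fun n => ?_
      rw [Set.mem_sdiff, Set.mem_singleton_iff]
      change _ ↔ (n ∈ N ∧ t * n * t⁻¹ = n⁻¹) ∧ n ≠ 1
      (clear * -; tauto)
    rw [h1, Set.ncard_sdiff_singleton_add_one]
    · rfl
    · exact ⟨one_mem _, by simp⟩
  -- every orbit has even length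
  have hvs : v * s * v⁻¹ = s⁻¹ := by rw [v_act F hs, hst]
  have hvsi : v * s⁻¹ * v⁻¹ = s := by
    calc v * s⁻¹ * v⁻¹ = (v * s * v⁻¹)⁻¹ := by group
      _ = s := by rw [hvs, inv_inv]
  have heven : ∀ ω : Ω, Even (MulAction.orbit J ω).ncard := by
    intro ω
    let U : J := ⟨u, F.uJ⟩
    let V : J := ⟨v, F.vJ⟩
    have hUU : U * U = 1 := Subtype.ext F.uu
    have hVV : V * V = 1 := Subtype.ext F.vv
    have hUV : U * V = V * U := Subtype.ext F.uv
    -- fixed points of `u`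
    have hfixU : ∀ n : Ω, U • n = n → V • n ≠ n := by
      intro n hn h
      have h1 : u * (n : G) * u⁻¹ = n := congrArg Subtype.val hn
      have h2 := hinv n n.2.1 (by
        have := mul_inv_eq_iff_eq_mul.1 h1
        exact this.symm) n.2.2.1
      have h3 : v * (n : G) * v⁻¹ = n := congrArg Subtype.val h
      rcases h2 with e | e | e
      · exact n.2.2.2 e
      · rw [e, hvs] at h3
        exact hsne h3.symm
      · rw [e, hvsi] at h3
        exact hsne h3
    -- the fixed point free involution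
    let O := MulAction.orbit J ω
    have hO : ∀ (a : J) (n : Ω), n ∈ O → a • n ∈ O := by
      rintro a n ⟨b, rfl⟩
      exact ⟨a * b, mul_smul a b ω⟩
    let f : O → O := fun n =>
      if U • (n : Ω) = n then ⟨V • (n : Ω), hO V n n.2⟩ else ⟨U • (n : Ω), hO U n n.2⟩
    have hf : ∀ n, f (f n) = n := by
      intro n
      by_cases h : U • (n : Ω) = n
      · have h1 : f n = ⟨V • (n : Ω), hO V n n.2⟩ := if_pos h
        have h2 : U • (V • (n : Ω)) = V • (n : Ω) := by
          rw [← mul_smul, hUV, mul_smul, h]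
        have h3 : f (f n) = ⟨V • (V • (n : Ω)), hO V _ (hO V n n.2)⟩ := by
          rw [h1]; exact if_pos h2
        rw [h3]
        apply Subtype.ext
        change V • (V • (n : Ω)) = n
        rw [← mul_smul, hVV, one_smul]
      · have h1 : f n = ⟨U • (n : Ω), hO U n n.2⟩ := if_neg h
        have h2 : ¬ U • (U • (n : Ω)) = U • (n : Ω) := by
          intro h'
          exact h (MulAction.injective U h')
        have h3 : f (f n) = ⟨U • (U • (n : Ω)), hO U _ (hO U n n.2)⟩ := by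
          rw [h1]; exact if_neg h2
        rw [h3]
        apply Subtype.ext
        change U • (U • (n : Ω)) = n
        rw [← mul_smul, hUU, one_smul]
    have hfne : ∀ n, f n ≠ n := by
      intro n hn
      by_cases h : U • (n : Ω) = n
      · have h1 : f n = ⟨V • (n : Ω), hO V n n.2⟩ := if_pos h
        rw [h1] at hn
        exact hfixU n h (congrArg Subtype.val hn)
      · have h1 : f n = ⟨U • (n : Ω), hO U n n.2⟩ := if_neg h
        rw [h1] at hn
        exact h (congrArg Subtype.val hn)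
    have h1 : (MulAction.orbit J ω).ncard = Nat.card O := (Nat.card_coe_set_eq _).symm
    rw [h1]
    exact even_card_of_invol f hf hfne
  exact no_orbits F.hJ heven (by omega)

end Cfsg.Agent.SylowLFive.MElevenOut
end

-- part: TypeLFive/JIdent
section
set_option linter.all false
open scoped Cfsg.Agent.FastGrp

-- part: TypeLFive/YCardPSU
section
/-!
`Y p t ≃* SL(2, q)` for the involutions of `SU₃(q)` and `PSU₃(q)`, `q` odd.
-/

set_option autoImplicit false

open scoped MatrixGroups Matrix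

namespace Cfsg.Agent.TypeLFive.YCardPSU

open Matrix Cfsg
open Cfsg.Agent.LieClassical.HermBasic
open Cfsg.Agent.TypeLFive.LThreeDef Cfsg.Agent.TypeLFive.LThreeFrame
open Cfsg.Agent.TypeLFive.LThreePSU Cfsg.Agent.TypeLFive.LThreePSUMain
open Cfsg.Agent.Phan (mat mat_mul mat_one mat_inj mat_det mat_isom mk mat_mk ext mat_ext extM inc
  inc_apply ext_injective)
open Cfsg.Agent.TypeLFive.YCard

variable {F : Type*} [Field F] [Fintype F] {q : ℕ}

/-- `Y p t0` is the standard `SU₂`. -/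
theorem Y_t0 (hF : Fintype.card F = q ^ 2) (hq : Odd q) (p : ℕ) [CharP F p] :
    Y p (t0 hF) = (ext hF e0 he0).range := by
  have h2 : (2 : F) ≠ 0 := two_ne hF hq
  have hp0 : p ≠ 0 := by
    rintro rfl
    have : CharZero F := CharP.charP_to_charZero F
    exact (not_finite F)
  have hpp : p.Prime := (CharP.char_is_prime_or_zero F p).resolve_right hp0
  have : Fact p.Prime := ⟨hpp⟩
  have hone : ∀ x : F, x ^ p = 1 → x = 1 := by
    intro x hx
    have h3 : (x - 1) ^ p = 0 := by rw [sub_pow_char, hx, one_pow, sub_self]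
    exact sub_eq_zero.1 (pow_eq_zero_iff hp0 |>.1 h3)
  obtain ⟨K, _, _, _, hK, ⟨f0⟩⟩ := exists_equiv hF p inferInstance hpp e0 he0
  apply le_antisymm
  · unfold Y
    rw [Subgroup.closure_le]
    rintro x ⟨hx, hxp⟩
    apply mem_ext hF
    obtain ⟨h01, h02, h10, h20⟩ := block h2 (mat_comm hx)
    have : mat x 0 0 = 1 := by
      apply hone
      rw [← LThreePSL.pow_zero_zero h10 h20, ← mat_pow, hxp, mat_one]
      rfl
    rw [mulVec_single hF h2 hx, this, one_smul]
  · exact LThreeSLTwo.le_of_equiv (p := p) f0 fun x hx hxp => mem_Y (ext_comm_t0 hF hx) hxp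

/-- `Y p t ≃* SL(2, q)` in `SU₃(q)`. -/
theorem yIso_su (hF : Fintype.card F = q ^ 2) (hq : Odd q) (p : ℕ) [CharP F p]
    {K : Type*} [Field K] [Fintype K] (hK : Fintype.card K = q) : YIso (SU 3 F q) p K := by
  intro t ht1 ht
  obtain ⟨g, hg⟩ := exists_conj_t0 hF (two_ne hF hq) ht1 ht
  obtain ⟨e⟩ := S0281.result hF hK
  exact yIso_of_conj hg ⟨(MulEquiv.subgroupCongr (Y_t0 hF hq p)).trans
    ((MonoidHom.ofInjective (ext_injective hF he0)).symm.trans e)⟩

/-- `Y p t ≃* SL(2, q)` in `PSU₃(q)`. -/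
theorem yIso_psu (hF : Fintype.card F = q ^ 2) (hq : Odd q) (p : ℕ) [CharP F p]
    {K : Type*} [Field K] [Fintype K] (hK : Fintype.card K = q) : YIso (PSU 3 F q) p K := by
  have h2 : (2 : F) ≠ 0 := two_ne hF hq
  have hp0 : p ≠ 0 := by
    rintro rfl
    have : CharZero F := CharP.charP_to_charZero F
    exact (not_finite F)
  have hpp : p.Prime := (CharP.char_is_prime_or_zero F p).resolve_right hp0
  refine yIso_quot (by rw [hK]; exact hq) hpp ?_ ?_ (yIso_su hF hq p hK)
  · exact center_pow hF h2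
  · exact center_bot hF h2

end Cfsg.Agent.TypeLFive.YCardPSU
end

-- part: TypeLFive/JIdent
section
/-!
# The three possibilities for the component `J` of type `L₃^ε(q)`
-/

set_option autoImplicit false

namespace Cfsg.Agent.TypeLFive.JIdent

open Cfsg Cfsg.Agent.TypeLFive.LThreeDef Cfsg.Agent.TypeLFive.YCard

/-- The conclusion of the theorems on simple groups with quasi-dihedral or wreathed Sylow 2-subgroups. -/
def JId (J : Type*) [Group J] : Prop :=
  (∃ (F : Type) (_ : Field F) (_ : Fintype F), Odd (Fintype.card F) ∧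
    Nonempty (J ≃* Matrix.ProjectiveSpecialLinearGroup (Fin 3) F)) ∨
  (∃ (F : Type) (_ : Field F) (_ : Fintype F) (q : ℕ), Fintype.card F = q ^ 2 ∧ Odd q ∧
    Nonempty (J ≃* Cfsg.PSU 3 F q)) ∨
  Cfsg.IsM11 J

/-- The facts on `J` in a uniform shape: `F₀` is the field of order `q`, `p` its characteristic. -/
structure JData (J : Type*) [Group J] (F₀ : Type) [Field F₀] [Fintype F₀] (p : ℕ) : Prop where
  odd : Odd (Fintype.card F₀)
  prime : p.Prime
  char : CharP F₀ p
  facts : Facts J p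
  yiso : YIso J p F₀
  cases : Nonempty (J ≃* Matrix.ProjectiveSpecialLinearGroup (Fin 3) F₀) ∨
    (∃ (F : Type) (_ : Field F) (_ : Fintype F), Fintype.card F = Fintype.card F₀ ^ 2 ∧
      Nonempty (J ≃* Cfsg.PSU 3 F (Fintype.card F₀))) ∨
    (Fintype.card F₀ = 3 ∧ Cfsg.IsM11 J)

theorem JData.ne_two {J : Type*} [Group J] {F₀ : Type} [Field F₀] [Fintype F₀] {p : ℕ}
    (h : JData J F₀ p) : p ≠ 2 := by
  rintro rfl
  have := h.char
  have h1 : ringChar F₀ = 2 := ringChar.eq F₀ 2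
  exact LThreeFacts.ringChar_ne_two h.odd h1

theorem JData.congr {J J' : Type*} [Group J] [Group J'] {F₀ : Type} [Field F₀] [Fintype F₀] {p : ℕ}
    (h : JData J F₀ p) (e : J ≃* J') : JData J' F₀ p := by
  refine ⟨h.odd, h.prime, h.char, h.facts.congr e, h.yiso.congr e, ?_⟩
  rcases h.cases with ⟨⟨f⟩⟩ | ⟨F, i1, i2, hF, ⟨f⟩⟩ | ⟨h3, hM⟩
  · exact Or.inl ⟨e.symm.trans f⟩
  · exact Or.inr (Or.inl ⟨F, i1, i2, hF, ⟨e.symm.trans f⟩⟩)
  · refine Or.inr (Or.inr ⟨h3, ?_, ?_⟩)
    · exact e.isSimpleGroup_congr.1 hM.1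
    · rw [← Nat.card_congr e.toEquiv]; exact hM.2

/-- From the list to the uniform data, given the facts on `M₁₁`. -/
theorem exists_jData {J : Type*} [Group J] (h : JId J)
    (hM : Cfsg.IsM11 J → Facts J 3 ∧ YIso J 3 (ZMod 3)) :
    ∃ (F₀ : Type) (_ : Field F₀) (_ : Fintype F₀) (p : ℕ), JData J F₀ p := by
  rcases h with ⟨F, i1, i2, hF, ⟨e⟩⟩ | ⟨F, i1, i2, q, hF, hq, ⟨e⟩⟩ | h
  · have : CharP F (ringChar F) := ringChar.charP F
    exact ⟨F, i1, i2, ringChar F, hF, LThreeFacts.prime_ringChar, inferInstance,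
      LThreeFacts.of_psl hF e, (yIso_psl hF (ringChar F)).congr e.symm, Or.inl ⟨e⟩⟩
  · have hc : CharP F (ringChar F) := ringChar.charP F
    obtain ⟨K, k1, k2, hKp, hK, -⟩ := LThreePSUMain.exists_equiv hF (ringChar F) hc
      LThreeFacts.prime_ringChar ![0, 1] (by decide)
    refine ⟨K, k1, k2, ringChar F, ?_, LThreeFacts.prime_ringChar, hKp, LThreeFacts.of_psu hF hq e,
      (YCardPSU.yIso_psu hF hq (ringChar F) hK).congr e.symm, Or.inr (Or.inl ⟨F, i1, i2, ?_, ?_⟩)⟩
    · rw [hK]; exact hq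
    · rw [hF, hK]
    · rw [hK]; exact ⟨e⟩
  · have : Fact (Nat.Prime 3) := ⟨Nat.prime_three⟩
    obtain ⟨h1, h2⟩ := hM h
    refine ⟨ZMod 3, inferInstance, inferInstance, 3, ?_, Nat.prime_three, inferInstance, h1, h2,
      Or.inr (Or.inr ⟨ZMod.card 3, h⟩)⟩
    rw [ZMod.card]; decide

/-- From the list to the uniform data. -/
theorem exists_jData' {J : Type*} [Group J] [Finite J] (h : JId J) :
    ∃ (F₀ : Type) (_ : Field F₀) (_ : Fintype F₀) (p : ℕ), JData J F₀ p :=
  exists_jData h fun hM => ⟨MElevenLThree.facts_m11 hM, yIso_m11 hM⟩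

end Cfsg.Agent.TypeLFive.JIdent
end
end

-- part: SylowLFive/ThreeLoc
section
set_option linter.all false
open scoped Cfsg.Agent.FastGrp

/-!
# Type `L₅`, `q = 3`: the groups `Y` inside a subgroup, and odd automorphisms of `J`
-/

set_option autoImplicit false

namespace Cfsg.Agent.SylowLFive.ThreeLoc

open Subgroup Cfsg.Agent.SylowLFive.ThreeAux Cfsg.Agent.TypeLFive.LThreeDef
open Cfsg.Agent.TypeLFive.YCard

variable {X : Type*} [Group X] {Fq : Type*} [Field Fq] [Fintype Fq]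

/-- An element which normalises `Y = SL(2,3)` and centralises its quaternion subgroup centralises
`Y`. -/
theorem comm_of_comm_P {Y : Subgroup X} {P : Subgroup Y} (hn : P.Normal) (hi : P.index = 3)
    (e : P ≃* Q8) (hz : ∀ c ∈ center Y, c * c = 1)
    (hgen : ∀ H : Subgroup X, (∀ y ∈ Y, y ^ 3 = 1 → y ∈ H) → Y ≤ H) {g : X}
    (hg : ∀ y, y ∈ Y ↔ g * y * g⁻¹ ∈ Y) (hP : ∀ p ∈ P, g * (p : X) = p * g) :
    ∀ y ∈ Y, g * y = y * g := by
  have key : Y ≤ centralizer ({g} : Set X) := by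
    apply hgen
    intro y hy hy3
    rw [mem_centralizer_singleton_iff]
    set c : Y := ⟨g * y * g⁻¹, (hg y).1 hy⟩ * ⟨y, hy⟩⁻¹ with hc
    have hcv : (c : X) = g * y * g⁻¹ * y⁻¹ := rfl
    have h1 : c ∈ center Y := by
      apply central_of hn hi e
      intro p hp
      apply Subtype.ext
      show (c : X) * p = p * c
      rw [hcv]
      have h2 : (⟨y, hy⟩ : Y)⁻¹ * p * ⟨y, hy⟩ ∈ P := by
        have := hn.conj_mem p hp (⟨y, hy⟩ : Y)⁻¹
        rwa [inv_inv] at this
      have h3 := hP _ h2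
      have h3' : g * (y⁻¹ * p * y) = y⁻¹ * p * y * g := h3
      have h4 := hP p hp
      calc g * y * g⁻¹ * y⁻¹ * (p : X) = g * y * g⁻¹ * ((y⁻¹ * p * y) * g) * g⁻¹ * y⁻¹ := by group
        _ = g * y * g⁻¹ * (g * (y⁻¹ * p * y)) * g⁻¹ * y⁻¹ := by rw [h3']
        _ = (g * (p : X)) * y * g⁻¹ * y⁻¹ := by group
        _ = ((p : X) * g) * y * g⁻¹ * y⁻¹ := by rw [h4]
        _ = (p : X) * (g * y * g⁻¹ * y⁻¹) := by group
    have h2 : c * c = 1 := hz c h1
    have h3 : (g * y * g⁻¹) ^ 3 = 1 := by rw [conj_pow, hy3, mul_one, mul_inv_cancel]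
    have h4 : (c : X) * y = g * y * g⁻¹ := by rw [hcv]; group
    have h5 : (c : X) * y = y * c := congrArg Subtype.val (mem_center_iff.1 h1 ⟨y, hy⟩).symm
    have h6 : (c : X) = 1 := by
      have h7 : ((c : X) * y) ^ 3 = (c : X) ^ 3 * y ^ 3 := (show Commute (c : X) y from h5).mul_pow 3
      rw [h4, h3, hy3, mul_one] at h7
      have h8 : (c : X) * c = 1 := congrArg Subtype.val h2
      have h9 : (c : X) ^ 3 = (c : X) * c * c := by rw [pow_succ, sq]
      rw [h9, h8, one_mul] at h7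
      exact h7.symm
    have h7 : g * y * g⁻¹ = y := by rw [← h4, h6, one_mul]
    calc y * g = (g * y * g⁻¹) * g := by rw [h7]
      _ = g * y := by group
  intro y hy
  exact (mem_centralizer_singleton_iff.1 (key hy)).symm

/-- An element of odd order which commutes with an involution acts trivially on `SL(2,3)` or the
involution does. -/
theorem sl_comm [Finite X] {Y : Subgroup X} (h3 : Fintype.card Fq = 3)
    (e : Y ≃* Matrix.SpecialLinearGroup (Fin 2) Fq)
    (hgen : ∀ H : Subgroup X, (∀ y ∈ Y, y ^ 3 = 1 → y ∈ H) → Y ≤ H) {x v : X}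
    (hx : ∀ y, y ∈ Y ↔ x * y * x⁻¹ ∈ Y) (hv : ∀ y, y ∈ Y ↔ v * y * v⁻¹ ∈ Y)
    (hxo : Odd (orderOf x)) (hvv : v * v = 1) (hxv : x * v = v * x) :
    (∀ y ∈ Y, x * y = y * x) ∨ (∀ y ∈ Y, v * y = y * v) := by
  obtain ⟨-, P, hPn, hPi, ⟨eP⟩, hP8, hz⟩ := exists_q8 h3 e
  have hmem : ∀ p : X, p ∈ P.map Y.subtype ↔ p ∈ Y ∧ p ^ 8 = 1 := by
    intro p
    constructor
    · rintro ⟨q, hq, rfl⟩
      exact ⟨q.2, congrArg Subtype.val ((hP8 q).1 hq)⟩
    · rintro ⟨hp, h8⟩
      exact ⟨⟨p, hp⟩, (hP8 _).2 (Subtype.ext h8), rfl⟩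
  have hnor : ∀ g : X, (∀ y, y ∈ Y ↔ g * y * g⁻¹ ∈ Y) →
      ∀ p, p ∈ P.map Y.subtype ↔ g * p * g⁻¹ ∈ P.map Y.subtype := by
    intro g hg p
    rw [hmem, hmem, ← hg, conj_pow]
    refine and_congr_right fun _ => ⟨fun h => by rw [h, mul_one, mul_inv_cancel], fun h => ?_⟩
    have := congrArg (fun z => g⁻¹ * z * g) h
    simpa [mul_assoc] using this
  let e' : P.map Y.subtype ≃* Q8 := (P.equivMapOfInjective Y.subtype Y.subtype_injective).symm.trans eP
  rcases q8_comm e' (hnor x hx) (hnor v hv) hxo hvv hxv with h | h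
  · left
    exact comm_of_comm_P hPn hPi eP hz hgen hx (fun p hp => h _ ⟨p, hp, rfl⟩)
  · right
    exact comm_of_comm_P hPn hPi eP hz hgen hv (fun p hp => h _ ⟨p, hp, rfl⟩)

/-- the subgroup generated by the elements of order 3 of `J` commuting with `t` -/
def YY (J : Subgroup X) (t : X) : Subgroup X := closure {x | x ∈ J ∧ x * t = t * x ∧ x ^ 3 = 1}

theorem YY_le (J : Subgroup X) (t : X) : YY J t ≤ J := by
  unfold YY
  rw [closure_le]
  exact fun x hx => hx.1

theorem YY_comm {J : Subgroup X} {t y : X} (hy : y ∈ YY J t) : y * t = t * y := by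
  have : YY J t ≤ centralizer ({t} : Set X) := by
    unfold YY
    rw [closure_le]
    exact fun x hx => mem_centralizer_singleton_iff.2 hx.2.1
  exact mem_centralizer_singleton_iff.1 (this hy)

theorem mem_YY {J : Subgroup X} {t x : X} (h1 : x ∈ J) (h2 : x * t = t * x) (h3 : x ^ 3 = 1) :
    x ∈ YY J t := subset_closure ⟨h1, h2, h3⟩

theorem YY_gen {J : Subgroup X} {t : X} (H : Subgroup X) (h : ∀ y ∈ YY J t, y ^ 3 = 1 → y ∈ H) :
    YY J t ≤ H := by
  conv_lhs => unfold YY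
  rw [closure_le]
  exact fun x hx => h x (mem_YY hx.1 hx.2.1 hx.2.2) hx.2.2

theorem YY_eq (J : Subgroup X) {t : X} (ht : t ∈ J) :
    YY J t = (Y 3 (⟨t, ht⟩ : J)).map J.subtype := by
  apply le_antisymm
  · conv_lhs => unfold YY
    rw [closure_le]
    rintro x ⟨h1, h2, h3⟩
    exact ⟨⟨x, h1⟩, mem_Y (Subtype.ext h2) (Subtype.ext h3), rfl⟩
  · rw [map_le_iff_le_comap]
    unfold Y
    rw [closure_le]
    rintro x ⟨h1, h2⟩
    exact mem_YY x.2 (congrArg Subtype.val h1) (congrArg Subtype.val h2)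

theorem YY_conj {J : Subgroup X} {t g : X} (hJ : ∀ j ∈ J, g * j * g⁻¹ ∈ J) (hg : g * t = t * g)
    {y : X} (hy : y ∈ YY J t) : g * y * g⁻¹ ∈ YY J t := by
  have : YY J t ≤ (YY J t).comap (MulAut.conj g).toMonoidHom := by
    conv_lhs => unfold YY
    rw [closure_le]
    rintro x ⟨h1, h2, h3⟩
    refine mem_YY (hJ x h1) ?_ ?_
    · show g * x * g⁻¹ * t = t * (g * x * g⁻¹)
      have h4 : g⁻¹ * t = t * g⁻¹ := by
        calc g⁻¹ * t = g⁻¹ * (t * g) * g⁻¹ := by group
          _ = g⁻¹ * (g * t) * g⁻¹ := by rw [hg]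
          _ = t * g⁻¹ := by group
      calc g * x * g⁻¹ * t = g * x * (g⁻¹ * t) := by group
        _ = g * (x * t) * g⁻¹ := by rw [h4]; group
        _ = (g * t) * x * g⁻¹ := by rw [h2]; group
        _ = t * (g * x * g⁻¹) := by rw [hg]; group
    · show (g * x * g⁻¹) ^ 3 = 1
      rw [conj_pow, h3, mul_one, mul_inv_cancel]
  exact this hy

theorem YY_conj_iff {J : Subgroup X} {t g : X} (hJ : ∀ j, j ∈ J ↔ g * j * g⁻¹ ∈ J)
    (hg : g * t = t * g) (y : X) : y ∈ YY J t ↔ g * y * g⁻¹ ∈ YY J t := by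
  refine ⟨YY_conj (fun j hj => (hJ j).1 hj) hg, fun h => ?_⟩
  have h1 : ∀ j ∈ J, g⁻¹ * j * g⁻¹⁻¹ ∈ J := by
    intro j hj
    rw [hJ]
    have : g * (g⁻¹ * j * g⁻¹⁻¹) * g⁻¹ = j := by group
    rwa [this]
  have h2 : g⁻¹ * t = t * g⁻¹ := by
    calc g⁻¹ * t = g⁻¹ * (t * g) * g⁻¹ := by group
      _ = g⁻¹ * (g * t) * g⁻¹ := by rw [hg]
      _ = t * g⁻¹ := by group
  have := YY_conj h1 h2 h
  have e1 : g⁻¹ * (g * y * g⁻¹) * g⁻¹⁻¹ = y := by group
  rwa [e1] at this

/-- The hypotheses on `J`. -/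
structure JHyp (J : Subgroup X) (Fq : Type*) [Field Fq] : Prop where
  simple : IsSimpleGroup J
  nc : ¬ IsMulCommutative J
  facts : Facts J 3
  yiso : YIso J 3 Fq

omit [Fintype Fq] in
theorem JHyp.equiv {J : Subgroup X} (h : JHyp J Fq) {t : X} (ht : t ∈ J) (h1 : t ≠ 1)
    (h2 : t * t = 1) : Nonempty (YY J t ≃* Matrix.SpecialLinearGroup (Fin 2) Fq) := by
  obtain ⟨e⟩ := h.yiso ⟨t, ht⟩ (fun hc => h1 (congrArg Subtype.val hc)) (Subtype.ext h2)
  exact ⟨(MulEquiv.subgroupCongr (YY_eq J ht)).trans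
    (((Y 3 (⟨t, ht⟩ : J)).equivMapOfInjective J.subtype J.subtype_injective).symm.trans e)⟩

theorem JHyp.card {J : Subgroup X} (h : JHyp J Fq) (hq : Fintype.card Fq = 3) {t : X} (ht : t ∈ J)
    (h1 : t ≠ 1) (h2 : t * t = 1) : Nat.card (YY J t) = 24 := by
  obtain ⟨e⟩ := h.equiv ht h1 h2
  exact (exists_q8 hq e).1

omit [Fintype Fq] in
theorem JHyp.center {J : Subgroup X} (h : JHyp J Fq) {z : X} (hz : z ∈ J)
    (hc : ∀ j ∈ J, z * j = j * z) : z = 1 := by
  have := h.simple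
  have h1 : (⟨z, hz⟩ : J) ∈ Subgroup.center J := by
    rw [mem_center_iff]
    intro j
    exact Subtype.ext (hc j j.2).symm
  rcases (inferInstance : (Subgroup.center J).Normal).eq_bot_or_eq_top with h2 | h2
  · rw [h2, mem_bot] at h1
    exact congrArg Subtype.val h1
  · exfalso
    apply h.nc
    refine ⟨⟨fun a b => ?_⟩⟩
    have ha : b ∈ Subgroup.center J := by rw [h2]; exact mem_top b
    exact (mem_center_iff.1 ha a)

omit [Fintype Fq] in
/-- `J` is generated by the `YY J w` for `w` in a four-group. -/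
theorem JHyp.gen {J : Subgroup X} (h : JHyp J Fq) {a c : X} (ha : a ∈ J) (ha1 : a ≠ 1)
    (ha2 : a * a = 1) (hc : c ∈ J) (hc1 : c ≠ 1) (hc2 : c * c = 1) (hac : a ≠ c)
    (hcomm : a * c = c * a) : J ≤ YY J a ⊔ YY J c ⊔ YY J (a * c) := by
  have h1 := h.facts.gen ⟨a, ha⟩ ⟨c, hc⟩ (fun hh => ha1 (congrArg Subtype.val hh))
    (Subtype.ext ha2) (fun hh => hc1 (congrArg Subtype.val hh)) (Subtype.ext hc2)
    (fun hh => hac (congrArg Subtype.val hh)) (Subtype.ext hcomm)
  have h2 := congrArg (Subgroup.map J.subtype) h1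
  rw [Subgroup.map_sup, Subgroup.map_sup, ← MonoidHom.range_eq_map, Subgroup.range_subtype] at h2
  rw [YY_eq J ha, YY_eq J hc, YY_eq J (mul_mem ha hc)]
  exact h2.ge

theorem JHyp.not_comm [Finite X] {J : Subgroup X} (h : JHyp J Fq) (hq : Fintype.card Fq = 3)
    {a c : X} (ha : a ∈ J) (ha1 : a ≠ 1)
    (ha2 : a * a = 1) (hc : c ∈ J) (hc1 : c ≠ 1) (hc2 : c * c = 1) (hac : a ≠ c)
    (hcomm : a * c = c * a) (hh : ∀ y ∈ YY J a, c * y = y * c) : False := by
  have h1 : YY J a ≤ YY J c := by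
    apply YY_gen
    intro y hy hy3
    exact mem_YY (YY_le _ _ hy) (hh y hy).symm hy3
  have h2 : YY J a ≤ YY J (a * c) := by
    apply YY_gen
    intro y hy hy3
    refine mem_YY (YY_le _ _ hy) ?_ hy3
    rw [← mul_assoc, YY_comm hy, mul_assoc, ← hh y hy, mul_assoc]
  have hac1 : a * c ≠ 1 := by
    intro h0
    apply hac
    calc a = a * (c * c) := by rw [hc2, mul_one]
      _ = c := by rw [← mul_assoc, h0, one_mul]
  have hac2 : a * c * (a * c) = 1 := by
    rw [hcomm]
    calc c * a * (c * a) = c * (a * c) * a := by group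
      _ = (c * c) * (a * a) := by rw [hcomm]; group
      _ = 1 := by rw [ha2, hc2, one_mul]
  have h3 : YY J a = YY J c := Subgroup.eq_of_le_of_card_ge h1
    (by rw [h.card hq ha ha1 ha2, h.card hq hc hc1 hc2])
  have h4 : YY J a = YY J (a * c) := Subgroup.eq_of_le_of_card_ge h2
    (by rw [h.card hq ha ha1 ha2, h.card hq (mul_mem ha hc) hac1 hac2])
  have h5 := h.gen ha ha1 ha2 hc hc1 hc2 hac hcomm
  rw [← h4, ← h3, sup_idem, sup_idem] at h5
  exact ha1 (h.center ha (fun j hj => (YY_comm (h5 hj)).symm))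

/-- **Lemma A.** An element of odd order normalising `J` and centralising a four-group of `J`
centralises `J`. -/
theorem JHyp.odd_trivial [Finite X] {J : Subgroup X} (h : JHyp J Fq) (hq : Fintype.card Fq = 3)
    {a c : X} (ha : a ∈ J) (ha1 : a ≠ 1)
    (ha2 : a * a = 1) (hc : c ∈ J) (hc1 : c ≠ 1) (hc2 : c * c = 1) (hac : a ≠ c)
    (hcomm : a * c = c * a) {x : X} (hx : ∀ j, j ∈ J ↔ x * j * x⁻¹ ∈ J) (hxo : Odd (orderOf x))
    (hxa : x * a = a * x) (hxc : x * c = c * x) : ∀ j ∈ J, x * j = j * x := by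
  have hac1 : a * c ≠ 1 := by
    intro h0
    apply hac
    calc a = a * (c * c) := by rw [hc2, mul_one]
      _ = c := by rw [← mul_assoc, h0, one_mul]
  have hac2 : a * c * (a * c) = 1 := by
    rw [hcomm]
    calc c * a * (c * a) = c * (a * c) * a := by group
      _ = (c * c) * (a * a) := by rw [hcomm]; group
      _ = 1 := by rw [ha2, hc2, one_mul]
  have key : ∀ a c : X, a ∈ J → a ≠ 1 → a * a = 1 → c ∈ J → c ≠ 1 → c * c = 1 → a ≠ c →
      a * c = c * a → x * a = a * x → x * c = c * x → YY J a ≤ centralizer ({x} : Set X) := by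
    intro a c ha ha1 ha2 hc hc1 hc2 hac hcomm hxa hxc
    obtain ⟨e⟩ := h.equiv ha ha1 ha2
    have hcJ : ∀ j, j ∈ J ↔ c * j * c⁻¹ ∈ J := by
      intro j
      rw [J.mul_mem_cancel_right (J.inv_mem hc), J.mul_mem_cancel_left hc]
    rcases sl_comm hq e (fun H hH => YY_gen H hH) (YY_conj_iff hx hxa)
      (YY_conj_iff hcJ hcomm.symm) hxo hc2 hxc with h1 | h1
    · intro y hy
      rw [mem_centralizer_singleton_iff]
      exact (h1 y hy).symm
    · exact (h.not_comm hq ha ha1 ha2 hc hc1 hc2 hac hcomm h1).elim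
  have h1 := h.gen ha ha1 ha2 hc hc1 hc2 hac hcomm
  have h2 := key a c ha ha1 ha2 hc hc1 hc2 hac hcomm hxa hxc
  have h3 := key c a hc hc1 hc2 ha ha1 ha2 hac.symm hcomm.symm hxc hxa
  have h4 := key (a * c) a (mul_mem ha hc) hac1 hac2 ha ha1 ha2
    (fun h0 => hc1 (mul_eq_left.1 h0)) (by rw [mul_assoc, hcomm])
    (by rw [← mul_assoc, hxa, mul_assoc, hxc, mul_assoc]) hxa
  intro j hj
  exact (mem_centralizer_singleton_iff.1 (sup_le (sup_le h2 h3) h4 (h1 hj))).symm

end Cfsg.Agent.SylowLFive.ThreeLoc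
end
end
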